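import Groth.Prelude.Def_EGA4b
import Mathlib.RingTheory.Ideal.IdempotentFG
import Mathlib.RingTheory.LocalProperties.IntegrallyClosed
import Mathlib.RingTheory.Localization.AtPrime.Basic

/-!
# Normal rings without Noetherian hypotheses

A ring is normal as soon as zero divisors are separated by idempotents and, locally at every prime,
fractions satisfying monic equations are ring elements; both conditions pass to subrings which are
integrally closed, to localizations and to directed unions.
-/

namespace Groth.Agent.IntBC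

universe u

open Polynomial

section FieldAux

variable {K : Type u} [Field K] {S M A C : K}

theorem frac_top (d : ℕ) (hC : C ≠ 0) : S * C ^ d * (A / C) ^ d = S * A ^ d := by
  rw [mul_assoc, ← mul_pow, mul_div_cancel₀ _ hC]

theorem frac_low {i d : ℕ} (h : i ≤ d) (hC : C ≠ 0) : C ^ d * (M * (A / C) ^ i) = M * A ^ i * C ^ (d - i) := by
  rw [show C ^ d = C ^ i * C ^ (d - i) by rw [← pow_add, Nat.add_sub_cancel' h],
    show A ^ i = C ^ i * (A / C) ^ i by rw [← mul_pow, mul_div_cancel₀ _ hC]]
  ring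

theorem frac_low' {i d : ℕ} (h : i ≤ d) (hS : S ≠ 0) (hC : C ≠ 0) :
    S * C ^ d * (S⁻¹ * M * (A / C) ^ i) = M * A ^ i * C ^ (d - i) := by
  rw [← frac_low h hC, mul_assoc S, mul_assoc S⁻¹, mul_left_comm (C ^ d), mul_inv_cancel_left₀ hS]

theorem frac_fin {W V : K} (hC : C ≠ 0) : C * (W * (V * (A / C))) = W * V * A := by
  rw [← mul_assoc W, mul_left_comm, mul_div_cancel₀ _ hC]

end FieldAux

/-- Zero products are separated by idempotents. -/
def IdemSep (R : Type u) [CommRing R] : Prop :=
  ∀ a b : R, a * b = 0 → ∃ e, IsIdempotentElem e ∧ e * a = 0 ∧ e * b = b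

/-- Fractions satisfying monic equations at a prime are elements of the local ring. -/
def FracClosed (R : Type u) [CommRing R] : Prop :=
  ∀ (Q : Ideal R), Q.IsPrime → ∀ (a c : R) (d : ℕ) (m : ℕ → R) (s : R), s ∉ Q →
    s * a ^ d + ∑ i ∈ Finset.range d, m i * a ^ i * c ^ (d - i) = 0 → (∀ v ∉ Q, v * c ≠ 0) →
      ∃ v ∉ Q, ∃ r, v * a = c * r

/-- A Noetherian normal ring separates zero products by idempotents. -/
theorem idemSep_of_noetherian {R : Type u} [CommRing R] [IsNoetherianRing R] (h : EGA4.IsNormalRing R) :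
    IdemSep R := by
  intro a b hab
  let I : Ideal R := (Submodule.span R {a}).annihilator
  have hI : ∀ x, x ∈ I ↔ x * a = 0 := fun x => by
    rw [Submodule.mem_annihilator_span_singleton, smul_eq_mul]
  have hidem : IsIdempotentElem I := by
    refine le_antisymm Ideal.mul_le_left fun x hx => ?_
    by_contra hcon
    obtain ⟨m, hm, hle⟩ := Ideal.exists_le_maximal ((I * I).colon {x}) (by
      rw [Ideal.ne_top_iff_one, Submodule.mem_colon_singleton, one_smul]
      exact hcon)
    haveI := (h m).1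
    have hsx : ∃ s ∉ m, s * x ∈ I * I := by
      rcases eq_or_ne (algebraMap R (Localization.AtPrime m) a) 0 with ha | ha
      · obtain ⟨⟨s, hs⟩, hsa⟩ := (IsLocalization.map_eq_zero_iff m.primeCompl _ a).mp ha
        exact ⟨s, hs, Ideal.mul_mem_mul ((hI s).mpr hsa) hx⟩
      · have hxm : algebraMap R (Localization.AtPrime m) x = 0 :=
          (mul_eq_zero.mp (by rw [← map_mul, (hI x).mp hx, map_zero])).resolve_right ha
        obtain ⟨⟨s, hs⟩, hsx⟩ := (IsLocalization.map_eq_zero_iff m.primeCompl _ x).mp hxm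
        exact ⟨s, hs, by rw [hsx]; exact zero_mem _⟩
    obtain ⟨s, hs, hsx⟩ := hsx
    exact hs (hle (Submodule.mem_colon_singleton.mpr hsx))
  obtain ⟨e, he, hIe⟩ := (I.isIdempotentElem_iff_of_fg (IsNoetherian.noetherian I)).mp hidem
  refine ⟨e, he, (hI e).mp (hIe ▸ Submodule.mem_span_singleton_self e), ?_⟩
  obtain ⟨r, hr⟩ := Submodule.mem_span_singleton.mp
    (hIe ▸ (hI b).mpr (by rw [mul_comm]; exact hab) : b ∈ R ∙ e)
  rw [← hr, smul_eq_mul, mul_left_comm, he.eq]

/-- In a normal ring fractions satisfying monic equations are locally ring elements. -/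
theorem fracClosed_of_normal {R : Type u} [CommRing R] (h : EGA4.IsNormalRing R) : FracClosed R := by
  intro Q hQ a c d m s hs hrel hc
  haveI := hQ
  haveI := (h Q).1
  haveI := (h Q).2
  let L := Localization.AtPrime Q
  let K := FractionRing L
  let g := algebraMap R L
  let α : R →+* K := (algebraMap L K).comp g
  obtain ⟨u, hu⟩ : IsUnit (g s) := IsLocalization.map_units L (⟨s, hs⟩ : Q.primeCompl)
  have hc0 : α c ≠ 0 := fun h0 => by
    have h1 : g c = 0 := (IsFractionRing.injective L K) (h0.trans (map_zero _).symm)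
    obtain ⟨⟨v, hv⟩, hvc⟩ := (IsLocalization.map_eq_zero_iff Q.primeCompl _ c).mp h1
    exact hc v hv hvc
  let p : L[X] := X ^ d + ∑ i : Fin d, C ((↑u⁻¹ : L) * g (m i)) * X ^ (i : ℕ)
  have hp : p.Monic := monic_X_pow_add (degree_sum_fin_lt _)
  have hαs : α s ≠ 0 := fun h0 => by
    have : g s = 0 := (IsFractionRing.injective L K) (h0.trans (map_zero _).symm)
    exact u.ne_zero (hu.trans this)
  have hint : IsIntegral L (α a / α c) := by
    refine ⟨p, hp, ?_⟩
    have h0 := congrArg α hrel
    simp only [map_add, map_mul, map_pow, map_sum, map_zero] at h0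
    rw [Finset.sum_range] at h0
    simp only [p, eval₂_add, eval₂_X_pow, eval₂_finsetSum, eval₂_mul, eval₂_C, map_mul]
    have hu' : algebraMap L K (↑u⁻¹ : L) = (α s)⁻¹ := by
      rw [map_units_inv, hu]; rfl
    rw [hu']
    refine (mul_eq_zero.mp ?_).resolve_left (mul_ne_zero hαs (pow_ne_zero d hc0))
    rw [← h0, mul_add, Finset.mul_sum]
    congr 1
    · exact frac_top d hc0
    · exact Finset.sum_congr rfl fun i _ => frac_low' i.2.le hαs hc0
  obtain ⟨y, hy⟩ := IsIntegrallyClosed.isIntegral_iff.mp hint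
  obtain ⟨r, ⟨v, hv⟩, rfl⟩ := IsLocalization.exists_mk'_eq Q.primeCompl y
  have hmul : g (v * a) = g (c * r) := by
    apply IsFractionRing.injective L K
    have h1 : algebraMap L K (IsLocalization.mk' L r (⟨v, hv⟩ : Q.primeCompl)) * α c = α a := by
      rw [hy, div_mul_cancel₀ _ hc0]
    rw [map_mul g, map_mul g, ← IsLocalization.mk'_spec L r (⟨v, hv⟩ : Q.primeCompl), map_mul, map_mul, map_mul]
    show α v * α a = α c * (_ * α v)
    rw [← h1]
    ring
  obtain ⟨⟨w, hw⟩, hwe⟩ := (IsLocalization.eq_iff_exists Q.primeCompl L).mp hmul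
  exact ⟨w * v, Q.primeCompl.mul_mem hw hv, w * r, by rw [mul_assoc, hwe, mul_left_comm]⟩

/-- A localization at a prime of a ring separating zero products is a domain. -/
theorem isDomain_atPrime {R : Type u} [CommRing R] (h : IdemSep R) (Q : Ideal R) [Q.IsPrime] :
    IsDomain (Localization.AtPrime Q) := by
  haveI : NoZeroDivisors (Localization.AtPrime Q) := by
    constructor
    intro x y hxy
    obtain ⟨a, s, rfl⟩ := IsLocalization.exists_mk'_eq Q.primeCompl x
    obtain ⟨b, t, rfl⟩ := IsLocalization.exists_mk'_eq Q.primeCompl y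
    rw [← IsLocalization.mk'_mul, IsLocalization.mk'_eq_zero_iff] at hxy
    obtain ⟨⟨w, hw⟩, hwe⟩ := hxy
    obtain ⟨e, he, hea, heb⟩ := h (w * a) b (by rw [mul_assoc]; exact hwe)
    by_cases heQ : e ∈ Q
    · right
      have h1 : 1 - e ∉ Q := fun h1 => ‹Q.IsPrime›.ne_top
        ((Ideal.eq_top_iff_one Q).mpr (by simpa using add_mem h1 heQ))
      exact (IsLocalization.mk'_eq_zero_iff _ _).mpr ⟨⟨1 - e, h1⟩, by rw [sub_mul, one_mul, heb, sub_self]⟩
    · left
      exact (IsLocalization.mk'_eq_zero_iff _ _).mpr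
        ⟨⟨e * w, Q.primeCompl.mul_mem heQ hw⟩, by rw [mul_assoc]; exact hea⟩
  exact NoZeroDivisors.to_isDomain _

/-- The two conditions give normality. -/
theorem isNormalRing_of {R : Type u} [CommRing R] (h : IdemSep R) (h' : FracClosed R) :
    EGA4.IsNormalRing R := by
  intro Q _
  haveI := isDomain_atPrime h Q
  refine ⟨inferInstance, ?_⟩
  let L := Localization.AtPrime Q
  let g := algebraMap R L
  let K := FractionRing L
  let α : R →+* K := (algebraMap L K).comp g
  rw [isIntegrallyClosed_iff K]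
  intro x hx
  obtain ⟨p, hp, hpx⟩ := hx
  have hhom : ∀ z : R, algebraMap L K (g z) = α z := fun _ => rfl
  obtain ⟨num, den, hden, hnd⟩ := IsFractionRing.div_surjective L x
  obtain ⟨a, t, rfl⟩ := IsLocalization.exists_mk'_eq Q.primeCompl num
  obtain ⟨c, t', rfl⟩ := IsLocalization.exists_mk'_eq Q.primeCompl den
  have hfrac : x * α (c * t) = α (a * t') := by
    have hne : algebraMap L K (IsLocalization.mk' L c t') ≠ 0 :=
      fun h0 => nonZeroDivisors.ne_zero hden ((IsFractionRing.injective L K) (h0.trans (map_zero _).symm))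
    have h1 : x * algebraMap L K (IsLocalization.mk' L c t') = algebraMap L K (IsLocalization.mk' L a t) := by
      rw [← hnd, div_mul_cancel₀ _ hne]
    rw [map_mul, map_mul, ← hhom c, ← hhom a, ← IsLocalization.mk'_spec L c t',
      ← IsLocalization.mk'_spec L a t, map_mul, map_mul, ← h1]
    show x * ((_ * α (t' : R)) * α (t : R)) = x * _ * α (t : R) * α (t' : R)
    ring
  have hct : ∀ v ∉ Q, v * (c * t) ≠ 0 := fun v hv h0 => by
    refine nonZeroDivisors.ne_zero hden ((IsLocalization.mk'_eq_zero_iff _ _).mpr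
      ⟨⟨v * t, Q.primeCompl.mul_mem hv t.2⟩, ?_⟩)
    linear_combination h0
  obtain ⟨⟨s, hs⟩, hsm⟩ := IsLocalization.exist_integer_multiples Q.primeCompl (Finset.range p.natDegree)
    (fun i => p.coeff i)
  choose! m hm using hsm
  have hrel : g (s * (a * t') ^ p.natDegree +
      ∑ i ∈ Finset.range p.natDegree, m i * (a * t') ^ i * (c * t) ^ (p.natDegree - i)) = 0 := by
    apply IsFractionRing.injective L K
    rw [map_zero (algebraMap L K), hhom, map_add, map_mul, map_pow, ← hfrac, map_sum]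
    have h0 : α (c * t) ^ p.natDegree * α s * Polynomial.eval₂ (algebraMap L K) x p = 0 := by
      rw [hpx, mul_zero]
    rw [Polynomial.eval₂_eq_sum_range, Finset.sum_range_succ, hp.coeff_natDegree, map_one, one_mul,
      mul_add, Finset.mul_sum] at h0
    rw [← h0, add_comm]
    congr 1
    · refine Finset.sum_congr rfl fun i hi => ?_
      have hmi : α (m i) = α s * algebraMap L K (p.coeff i) := by
        rw [← hhom, hm i hi, Algebra.smul_def, map_mul]
        rfl
      rw [map_mul, map_mul, map_pow, map_pow, hmi, ← hfrac, mul_pow,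
        show α (c * t) ^ p.natDegree = α (c * t) ^ i * α (c * t) ^ (p.natDegree - i) by
          rw [← pow_add, Nat.add_sub_cancel' (Finset.mem_range.mp hi).le]]
      ring
    · rw [mul_pow]; ring
  obtain ⟨⟨w, hw⟩, hwz⟩ := (IsLocalization.map_eq_zero_iff Q.primeCompl _ _).mp hrel
  obtain ⟨v, hv, r, hvr⟩ := h' Q inferInstance (a * t') (c * t) p.natDegree (fun i => w * m i) (w * s)
    (Q.primeCompl.mul_mem hw hs) (by
      rw [← hwz, mul_add, Finset.mul_sum]
      congr 1
      · ring
      · exact Finset.sum_congr rfl fun i _ => by ring) hct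
  refine ⟨IsLocalization.mk' L r (⟨v, hv⟩ : Q.primeCompl), ?_⟩
  have hne : α (c * t) ≠ 0 := fun h0 => by
    obtain ⟨⟨v', hv'⟩, hv''⟩ := (IsLocalization.map_eq_zero_iff Q.primeCompl _ _).mp
      ((IsFractionRing.injective L K) (h0.trans (map_zero _).symm))
    exact hct v' hv' hv''
  have hve : α v ≠ 0 := fun h0 => by
    obtain ⟨u, hu⟩ : IsUnit (g v) := IsLocalization.map_units L (⟨v, hv⟩ : Q.primeCompl)
    exact u.ne_zero (hu.trans ((IsFractionRing.injective L K) (h0.trans (map_zero _).symm)))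
  refine mul_right_cancel₀ (mul_ne_zero hne hve) ?_
  calc algebraMap L K (IsLocalization.mk' L r (⟨v, hv⟩ : Q.primeCompl)) * (α (c * t) * α v)
      = α (c * t) * algebraMap L K (IsLocalization.mk' L r (⟨v, hv⟩ : Q.primeCompl) * g v) := by
        rw [map_mul (algebraMap L K), hhom]; ring
    _ = α ((c * t) * r) := by
        rw [IsLocalization.mk'_spec L r (⟨v, hv⟩ : Q.primeCompl), hhom, ← map_mul α]
    _ = x * (α (c * t) * α v) := by rw [← hvr, map_mul α, ← hfrac]; ring

/-- Directed unions. -/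
theorem of_directed {T : Type u} [CommRing T]
    (h : ∀ s : Finset T, ∃ (T₀ : Type u) (_ : CommRing T₀) (f : T₀ →+* T),
      Function.Injective f ∧ (s : Set T) ⊆ Set.range f ∧ IdemSep T₀ ∧ FracClosed T₀) :
    IdemSep T ∧ FracClosed T := by
  classical
  refine ⟨fun a b hab => ?_, fun Q hQ a c d m s hs hrel hc => ?_⟩
  · obtain ⟨T₀, _, f, hf, hsub, hi, -⟩ := h {a, b}
    obtain ⟨a₀, rfl⟩ := hsub (show a ∈ ({a, b} : Finset T) by simp)
    obtain ⟨b₀, rfl⟩ := hsub (show b ∈ ({f a₀, b} : Finset T) by simp)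
    obtain ⟨e, he, hea, heb⟩ := hi a₀ b₀ (hf (by rw [map_mul, hab, map_zero]))
    exact ⟨f e, he.map f, by rw [← map_mul, hea, map_zero], by rw [← map_mul, heb]⟩
  · haveI := hQ
    obtain ⟨T₀, _, f, hf, hsub, -, hclosed⟩ := h ({a, c, s} ∪ (Finset.range d).image m)
    obtain ⟨a₀, ha⟩ := hsub (show a ∈ ({a, c, s} ∪ (Finset.range d).image m : Finset T) by simp)
    obtain ⟨c₀, hc₀⟩ := hsub (show c ∈ ({a, c, s} ∪ (Finset.range d).image m : Finset T) by simp)
    obtain ⟨s₀, hs₀⟩ := hsub (show s ∈ ({a, c, s} ∪ (Finset.range d).image m : Finset T) by simp)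
    have hm' : ∀ i ∈ Finset.range d, ∃ y, f y = m i := fun i hi => hsub
      (Finset.mem_coe.mpr (Finset.mem_union_right _ (Finset.mem_image_of_mem m hi)))
    choose! m₀ hm₀ using hm'
    obtain ⟨v, hv, r, hvr⟩ := hclosed (Q.comap f) inferInstance a₀ c₀ d m₀ s₀
      (by rw [Ideal.mem_comap, hs₀]; exact hs)
      (hf (by
        rw [map_zero, ← hrel, map_add, map_mul, map_pow, ha, hs₀, map_sum]
        congr 1
        exact Finset.sum_congr rfl fun i hi => by rw [map_mul, map_mul, map_pow, map_pow, ha, hc₀, hm₀ i hi]))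
      (fun v hv h0 => hc (f v) hv (by rw [← hc₀, ← map_mul, h0, map_zero]))
    exact ⟨f v, hv, f r, by rw [← ha, ← hc₀, ← map_mul, hvr, map_mul]⟩

/-- Localizations. -/
theorem idemSep_localization {R : Type u} [CommRing R] (M : Submonoid R) (C : Type u) [CommRing C]
    [Algebra R C] [IsLocalization M C] (h : IdemSep R) : IdemSep C := by
  intro x y hxy
  obtain ⟨a, s, rfl⟩ := IsLocalization.exists_mk'_eq M x
  obtain ⟨b, t, rfl⟩ := IsLocalization.exists_mk'_eq M y
  rw [← IsLocalization.mk'_mul, IsLocalization.mk'_eq_zero_iff] at hxy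
  obtain ⟨w, hwe⟩ := hxy
  obtain ⟨e, he, hea, heb⟩ := h ((w : R) * a) b (by rw [mul_assoc]; exact hwe)
  refine ⟨algebraMap R C e, he.map _, ?_, ?_⟩
  · rw [IsLocalization.mul_mk'_eq_mk'_of_mul, IsLocalization.mk'_eq_zero_iff]
    exact ⟨w, by rw [mul_left_comm]; exact hea⟩
  · rw [IsLocalization.mul_mk'_eq_mk'_of_mul, heb]

/-- An integrally closed subring of a normal ring with separated zero products. -/
theorem of_integrallyClosed_sub {R T : Type u} [CommRing R] [CommRing T] (f : R →+* T) (hf : Function.Injective f)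
    (hT : EGA4.IsNormalRing T) (hi : IdemSep T) (hcl : ∀ t, f.IsIntegralElem t → t ∈ f.range) :
    IdemSep R ∧ FracClosed R := by
  have hidem : ∀ e : T, IsIdempotentElem e → ∃ e₀ : R, f e₀ = e ∧ IsIdempotentElem e₀ := by
    intro e he
    obtain ⟨e₀, rfl⟩ := hcl e ⟨X * (X - 1), monic_X.mul (monic_X_sub_C 1), by simp [mul_sub, he.eq]⟩
    exact ⟨e₀, rfl, hf (by rw [map_mul, he.eq])⟩
  refine ⟨fun a b hab => ?_, fun Q hQ a c d m s hs hrel hc => ?_⟩
  · obtain ⟨e, he, hea, heb⟩ := hi (f a) (f b) (by rw [← map_mul, hab, map_zero])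
    obtain ⟨e₀, rfl, he₀⟩ := hidem e he
    exact ⟨e₀, he₀, hf (by rw [map_mul, hea, map_zero]), hf (by rw [map_mul, heb])⟩
  haveI := hQ
  let M : Submonoid T := Q.primeCompl.map f
  let T' := Localization M
  let g := algebraMap T T'
  haveI : Nontrivial T' := by
    refine ⟨1, 0, fun h1 => ?_⟩
    rw [← map_one g, IsLocalization.map_eq_zero_iff M] at h1
    obtain ⟨⟨_, v, hv, rfl⟩, h1⟩ := h1
    rw [mul_one] at h1
    exact hv (by rw [hf (h1.trans (map_zero f).symm)]; exact Q.zero_mem)
  haveI : NoZeroDivisors T' := by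
    constructor
    intro x y hxy
    obtain ⟨a', s', rfl⟩ := IsLocalization.exists_mk'_eq M x
    obtain ⟨b', t', rfl⟩ := IsLocalization.exists_mk'_eq M y
    rw [← IsLocalization.mk'_mul, IsLocalization.mk'_eq_zero_iff] at hxy
    obtain ⟨⟨w, hwM⟩, hwe⟩ := hxy
    obtain ⟨e, he, hea, heb⟩ := hi (w * a') b' (by rw [mul_assoc]; exact hwe)
    obtain ⟨e₀, rfl, he₀⟩ := hidem e he
    by_cases heQ : e₀ ∈ Q
    · right
      have h1 : 1 - e₀ ∉ Q := fun h1 => hQ.ne_top
        ((Ideal.eq_top_iff_one Q).mpr (by simpa using add_mem h1 heQ))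
      exact (IsLocalization.mk'_eq_zero_iff _ _).mpr
        ⟨⟨f (1 - e₀), Submonoid.mem_map_of_mem f (h1 : 1 - e₀ ∈ Q.primeCompl)⟩,
          show f (1 - e₀) * b' = 0 by rw [map_sub, map_one, sub_mul, one_mul, heb, sub_self]⟩
    · left
      exact (IsLocalization.mk'_eq_zero_iff _ _).mpr
        ⟨⟨f e₀ * w, M.mul_mem ⟨e₀, heQ, rfl⟩ hwM⟩, by rw [mul_assoc]; exact hea⟩
  haveI : IsDomain T' := NoZeroDivisors.to_isDomain _
  haveI : IsIntegrallyClosed T' := by
    refine IsIntegrallyClosed.of_localization_maximal fun P _ _ => ?_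
    haveI : IsLocalization.AtPrime (Localization.AtPrime P) (P.comap g) :=
      IsLocalization.isLocalization_isLocalization_atPrime_isLocalization M (Localization.AtPrime P) P
    haveI := (hT (P.comap g)).2
    exact IsIntegrallyClosed.of_equiv
      (IsLocalization.algEquiv (P.comap g).primeCompl (Localization.AtPrime (P.comap g))
        (Localization.AtPrime P)).toRingEquiv
  let K := FractionRing T'
  let β : R →+* K := (algebraMap T' K).comp (g.comp f)
  have hβ : ∀ z, β z = 0 → ∃ v ∉ Q, v * z = 0 := fun z hz => by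
    have h1 : g (f z) = 0 := (IsFractionRing.injective T' K) (hz.trans (map_zero _).symm)
    obtain ⟨⟨_, v, hv, rfl⟩, hve⟩ := (IsLocalization.map_eq_zero_iff M _ _).mp h1
    exact ⟨v, hv, hf (by rw [map_mul, hve, map_zero])⟩
  have hc0 : β c ≠ 0 := fun h0 => by
    obtain ⟨v, hv, hvc⟩ := hβ c h0
    exact hc v hv hvc
  have hs0 : β s ≠ 0 := fun h0 => by
    obtain ⟨v, hv, hvs⟩ := hβ s h0
    exact hQ.mul_notMem hv hs (by rw [hvs]; exact Q.zero_mem)
  let x : K := β a / β c
  have hx : β s * x ^ d + ∑ i ∈ Finset.range d, β (m i) * x ^ i = 0 := by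
    refine (mul_eq_zero.mp ?_).resolve_right (pow_ne_zero d hc0)
    calc (β s * x ^ d + ∑ i ∈ Finset.range d, β (m i) * x ^ i) * β c ^ d
        = β s * β a ^ d + ∑ i ∈ Finset.range d, β (m i) * β a ^ i * β c ^ (d - i) := by
          rw [add_mul, Finset.sum_mul]
          congr 1
          · rw [mul_right_comm]; exact frac_top d hc0
          · refine Finset.sum_congr rfl fun i hi => ?_
            rw [mul_comm]; exact frac_low (Finset.mem_range.mp hi).le hc0
      _ = 0 := by
          have h0 := congrArg β hrel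
          simpa [map_add, map_mul, map_pow, map_sum] using h0
  obtain ⟨us, hus⟩ : IsUnit (g (f s)) := IsLocalization.map_units T' (⟨f s, s, hs, rfl⟩ : M)
  let p : T'[X] := X ^ d + ∑ i : Fin d, C ((↑us⁻¹ : T') * g (f (m i))) * X ^ (i : ℕ)
  have hint : IsIntegral T' x := by
    refine ⟨p, monic_X_pow_add (degree_sum_fin_lt _), ?_⟩
    rw [Finset.sum_range] at hx
    simp only [p, eval₂_add, eval₂_X_pow, eval₂_finsetSum, eval₂_mul, eval₂_C, map_mul, map_units_inv, hus]
    refine (mul_eq_zero.mp ?_).resolve_left hs0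
    rw [← hx, mul_add, Finset.mul_sum]
    congr 1
    refine Finset.sum_congr rfl fun i _ => ?_
    show β s * ((β s)⁻¹ * β (m i) * x ^ (i : ℕ)) = _
    rw [mul_assoc, mul_inv_cancel_left₀ hs0]
  obtain ⟨y, hy⟩ := IsIntegrallyClosed.isIntegral_iff.mp hint
  obtain ⟨t, ⟨_, v, hv, rfl⟩, rfl⟩ := IsLocalization.exists_mk'_eq M y
  have hxt : algebraMap T' K (g t) = β v * x := by
    rw [← hy, ← IsLocalization.mk'_spec T' t (⟨f v, v, hv, rfl⟩ : M), map_mul, mul_comm]
    rfl
  have h0 : g (f s * t ^ d + ∑ i ∈ Finset.range d, f (m i * v ^ (d - i)) * t ^ i) = 0 := by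
    apply IsFractionRing.injective T' K
    simp only [map_add, map_mul, map_pow, map_sum, map_zero, hxt]
    have h1 : β v ^ d * (β s * x ^ d + ∑ i ∈ Finset.range d, β (m i) * x ^ i) = 0 := by rw [hx, mul_zero]
    rw [← h1, mul_add, Finset.mul_sum]
    congr 1
    · show β s * _ = _
      rw [mul_pow]; ring
    · refine Finset.sum_congr rfl fun i hi => ?_
      show β (m i) * β v ^ (d - i) * _ = _
      rw [show β v ^ d = β v ^ i * β v ^ (d - i) by
        rw [← pow_add, Nat.add_sub_cancel' (Finset.mem_range.mp hi).le], mul_pow]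
      ring
  obtain ⟨⟨_, w, hw, rfl⟩, hwe⟩ := (IsLocalization.map_eq_zero_iff M _ _).mp h0
  let q : R[X] := C (w * s) * X ^ d + ∑ i ∈ Finset.range d, C (w * (m i * v ^ (d - i))) * X ^ i
  obtain ⟨r, hr⟩ : f (w * s) * t ∈ f.range := by
    by_cases hd : d = 0
    · subst hd
      simp only [Finset.range_zero, Finset.sum_empty, add_zero, pow_zero, mul_one] at hx
      exact absurd hx hs0
    refine hcl _ ⟨X ^ d + ∑ i : Fin d,
      C ((w * s) ^ (d - 1 - (i : ℕ)) * (w * (m i * v ^ (d - (i : ℕ))))) * X ^ (i : ℕ),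
      monic_X_pow_add (degree_sum_fin_lt _), ?_⟩
    have h1 : f (w * s) ^ (d - 1) *
        (f w * (f s * t ^ d + ∑ i ∈ Finset.range d, f (m i * v ^ (d - i)) * t ^ i)) = 0 := by
      rw [hwe, mul_zero]
    rw [← h1, Finset.sum_range]
    simp only [eval₂_add, eval₂_X, eval₂_finsetSum, eval₂_mul, eval₂_pow, eval₂_C, mul_add, Finset.mul_sum,
      map_mul, map_pow]
    congr 1
    · rw [mul_pow, show (f w * f s) ^ d = (f w * f s) ^ (d - 1) * (f w * f s) by
        rw [← pow_succ, Nat.sub_add_cancel (Nat.pos_of_ne_zero hd)]]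
      ring
    · refine Finset.sum_congr rfl fun i _ => ?_
      rw [mul_pow, show (f w * f s) ^ (d - 1) = (f w * f s) ^ (d - 1 - (i : ℕ)) * (f w * f s) ^ (i : ℕ) by
        rw [← pow_add, Nat.sub_add_cancel (by omega)]]
      ring
  have hfin : β (w * s * v * a) = β (c * r) := by
    have hr' : β r = β (w * s) * (β v * x) := by
      show algebraMap T' K (g (f r)) = _
      rw [hr, map_mul g, map_mul (algebraMap T' K), hxt]
      rfl
    rw [map_mul β, map_mul β, map_mul β c, hr']
    exact (frac_fin hc0).symm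
  obtain ⟨v', hv', hve⟩ := hβ (w * s * v * a - c * r) (by rw [map_sub, hfin, sub_self])
  exact ⟨v' * (w * s * v), Q.primeCompl.mul_mem hv' (Q.primeCompl.mul_mem (Q.primeCompl.mul_mem hw hs) hv),
    v' * r, by linear_combination hve⟩

/-- Normal rings can be recognised one localization at a time along a ring map. -/
theorem isNormalRing_of_cover {R : Type u} [CommRing R]
    (h : ∀ Q : Ideal R, Q.IsPrime → ∃ (C : Type u) (_ : CommRing C) (_ : Algebra R C) (M : Submonoid R),
      IsLocalization M C ∧ Disjoint (M : Set R) (Q : Set R) ∧ EGA4.IsNormalRing C) :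
    EGA4.IsNormalRing R := by
  intro Q hQ
  obtain ⟨C, _, _, M, hM, hd, hC⟩ := h Q hQ
  haveI := hM
  let P := Q.map (algebraMap R C)
  haveI : P.IsPrime := IsLocalization.isPrime_of_isPrime_disjoint M C Q hQ hd
  have hP : P.comap (algebraMap R C) = Q := IsLocalization.comap_map_of_isPrime_disjoint M C hQ hd
  have h1 : IsLocalization.AtPrime (Localization.AtPrime P) (P.comap (algebraMap R C)) :=
    IsLocalization.isLocalization_isLocalization_atPrime_isLocalization M (Localization.AtPrime P) P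
  haveI : IsLocalization.AtPrime (Localization.AtPrime P) Q := by
    have hM : (P.comap (algebraMap R C)).primeCompl = Q.primeCompl := Submonoid.ext fun z => by
      show z ∉ P.comap (algebraMap R C) ↔ z ∉ Q
      rw [hP]
    have h2 : IsLocalization (P.comap (algebraMap R C)).primeCompl (Localization.AtPrime P) := h1
    rwa [hM] at h2
  let e : Localization.AtPrime P ≃+* Localization.AtPrime Q :=
    (IsLocalization.algEquiv Q.primeCompl (Localization.AtPrime P) (Localization.AtPrime Q)).toRingEquiv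
  haveI := (hC P).1
  haveI := (hC P).2
  exact ⟨MulEquiv.isDomain (Localization.AtPrime P) e.symm.toMulEquiv, IsIntegrallyClosed.of_equiv e⟩

end Groth.Agent.IntBC
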