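import Groth.Agent.IntBC.Closed
import Groth.Agent.IntBC.Normal
import Groth.Agent.FlatLoc6.GeomRed
import Groth.Agent.FlatLoc6.DefinedPrime
import Groth.Agent.GrpSchLib.Reduced
import Groth.Agent.S9256

/-!
# Normality of tensor products
-/

namespace Groth.Agent.IntBC

universe u

open TensorProduct

/-- Transport along an isomorphism. -/
theorem of_equiv {R S : Type u} [CommRing R] [CommRing S] (e : R ≃+* S) (h : IdemSep R ∧ FracClosed R) :
    IdemSep S ∧ FracClosed S :=
  of_directed fun _ => ⟨R, inferInstance, e.toRingHom, e.injective,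
    fun x _ => ⟨e.symm x, e.apply_symm_apply x⟩, h.1, h.2⟩

/-- A domain separates zero products. -/
theorem idemSep_of_domain (R : Type u) [CommRing R] [NoZeroDivisors R] : IdemSep R := by
  intro a b hab
  rcases mul_eq_zero.mp hab with h | h
  · exact ⟨1, IsIdempotentElem.one, by rw [h, mul_zero], one_mul b⟩
  · exact ⟨0, IsIdempotentElem.zero, zero_mul a, by rw [h, mul_zero]⟩

/-- A normal domain is integrally closed. -/
theorem isIntegrallyClosed_of_normal (R : Type u) [CommRing R] [IsDomain R] (h : EGA4.IsNormalRing R) :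
    IsIntegrallyClosed R :=
  IsIntegrallyClosed.of_localization_maximal fun p _ _ => (h p).2

section Field

variable {k : Type u} [Field k]

/-- A base change of a geometrically normal Noetherian algebra to any field. -/
theorem fieldTensor_normal (K : Type u) [Field K] [Algebra k K] (F : Type u) [CommRing F] [Algebra k F]
    [IsNoetherianRing F] (hF : EGA4.IsGeomNormal k F) : IdemSep (K ⊗[k] F) ∧ FracClosed (K ⊗[k] F) := by
  classical
  refine of_directed fun s => ?_
  choose t ht using fun x : K ⊗[k] F => FlatLoc6.exists_finset_defined k K F x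
  let K₀ := IntermediateField.adjoin k ((s.biUnion t : Finset K) : Set K)
  haveI : Algebra.EssFiniteType k K₀ := IntermediateField.essFiniteType_iff.mpr ⟨s.biUnion t, rfl⟩
  obtain ⟨hN, hn⟩ := FlatLoc6.normal_tensor_of_isGeomNormal hF K₀
  haveI := hN
  refine ⟨K₀ ⊗[k] F, inferInstance, (Algebra.TensorProduct.map K₀.val (AlgHom.id k F)).toRingHom, ?_, ?_,
    idemSep_of_noetherian hn, fracClosed_of_normal hn⟩
  · exact Module.Flat.rTensor_preserves_injective_linearMap (M := F) K₀.val.toLinearMap Subtype.val_injective
  · intro x hx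
    obtain ⟨y, hy⟩ := ht x K₀ fun a ha =>
      IntermediateField.subset_adjoin k _ (Finset.mem_biUnion.mpr ⟨x, hx, ha⟩)
    exact ⟨y, hy⟩

/-- A geometrically reduced field extension is geometrically normal. -/
theorem isGeomNormal_of_field (L : Type u) [Field L] [Algebra k L] [Algebra.IsGeometricallyReduced k L] :
    EGA4.IsGeomNormal k L := fun k' _ _ hk =>
  haveI : IsRegularRing (k' ⊗[k] L) := (S9256.fibre_iff k L).mpr inferInstance k' hk
  FlatLoc6.isNormalRing_of_isRegularRing _

/-- The fraction field of a geometrically reduced domain. -/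
theorem geomReduced_fractionField (A : Type u) [CommRing A] [IsDomain A] [Algebra k A]
    [Algebra.IsGeometricallyReduced k A] (L : Type u) [Field L] [Algebra A L] [IsFractionRing A L]
    [Algebra k L] [IsScalarTower k A L] : Algebra.IsGeometricallyReduced k L := by
  rw [Algebra.isGeometricallyReduced_field_iff]
  haveI := FBaseLib.isReduced_field_tensor (k := k) A (AlgebraicClosure k)
  let Ω := AlgebraicClosure k
  letI : Algebra (Ω ⊗[k] A) (Ω ⊗[k] L) :=
    (Algebra.TensorProduct.map (AlgHom.id k Ω) (IsScalarTower.toAlgHom k A L)).toAlgebra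
  haveI : IsScalarTower Ω (Ω ⊗[k] A) (Ω ⊗[k] L) :=
    .of_algebraMap_eq <| by intro; simp [RingHom.algebraMap_toAlgebra]
  haveI := IsLocalization.tensorProduct_tensorProduct_right k Ω (nonZeroDivisors A) L
    (by ext; simp [RingHom.algebraMap_toAlgebra])
  exact isReduced_localizationPreserves
    ((nonZeroDivisors A).map (Algebra.TensorProduct.includeRight (R := k) (A := Ω))) (Ω ⊗[k] L) inferInstance

end Field

/-- The tensor product with an integrally closed domain inherits normality from the one with its
fraction field. -/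
theorem normal_of_model {A : Type u} [CommRing A] [IsNoetherianRing A] {E : Type u} [CommRing E] [Algebra A E]
    [Module.Flat A E] (hE : ∀ (L : Type u) [Field L] [Algebra A L], IsReduced (L ⊗[A] E))
    (B : Type u) [CommRing B] [IsDomain B] [IsIntegrallyClosed B] [Algebra A B]
    (hT : IdemSep (E ⊗[A] FractionRing B) ∧ FracClosed (E ⊗[A] FractionRing B)) :
    IdemSep (E ⊗[A] B) ∧ FracClosed (E ⊗[A] B) := by
  let g := IsScalarTower.toAlgHom A B (FractionRing B)
  exact of_integrallyClosed_sub (baseMap (A := A) E B (FractionRing B)).toRingHom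
    (Module.Flat.lTensor_preserves_injective_linearMap (M := E) g.toLinearMap
      (IsFractionRing.injective B (FractionRing B)))
    (isNormalRing_of hT.1 hT.2) hT.1 (mem_range_of_isIntegral hE)

/-- Normality of a tensor product may be checked on the localizations of the second factor. -/
theorem normal_of_local {A E B : Type u} [CommRing A] [CommRing E] [CommRing B] [Algebra A E] [Algebra A B]
    (h : ∀ (q : Ideal B) [q.IsPrime], EGA4.IsNormalRing (E ⊗[A] Localization.AtPrime q)) :
    EGA4.IsNormalRing (E ⊗[A] B) := by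
  refine isNormalRing_of_cover fun Q hQ => ?_
  let i : B →+* E ⊗[A] B := (Algebra.TensorProduct.includeRight (R := A) (A := E) (B := B)).toRingHom
  let q : Ideal B := Q.comap i
  haveI : q.IsPrime := Ideal.comap_isPrime i Q
  let Bq := Localization.AtPrime q
  letI : Algebra (E ⊗[A] B) (E ⊗[A] Bq) :=
    (Algebra.TensorProduct.map (AlgHom.id A E) (IsScalarTower.toAlgHom A B Bq)).toAlgebra
  haveI : IsScalarTower E (E ⊗[A] B) (E ⊗[A] Bq) :=
    .of_algebraMap_eq <| by intro; simp [RingHom.algebraMap_toAlgebra]
  haveI := IsLocalization.tensorProduct_tensorProduct_right A E q.primeCompl Bq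
    (by ext; simp [RingHom.algebraMap_toAlgebra])
  refine ⟨E ⊗[A] Bq, inferInstance, inferInstance,
    q.primeCompl.map (Algebra.TensorProduct.includeRight (R := A) (A := E)), inferInstance, ?_, h q⟩
  rw [Set.disjoint_left]
  rintro _ ⟨b, hb, rfl⟩ hbQ
  exact hb hbQ

/-- `A' ⊗ B` is normal for a normal homomorphism `A → A'` and a normal ring `B`. -/
theorem normal_of_isNormalHom (A A' : Type u) [CommRing A] [CommRing A'] [IsNoetherianRing A]
    [IsNoetherianRing A'] [Algebra A A'] (h : EGA4.IsNormalHom A A') (B : Type u) [CommRing B] [Algebra A B]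
    (hB : EGA4.IsNormalRing B) : EGA4.IsNormalRing (A' ⊗[A] B) := by
  haveI := h.1
  refine normal_of_local fun q _ => ?_
  haveI := (hB q).1
  haveI := (hB q).2
  have hE : ∀ (L : Type u) [Field L] [Algebra A L], IsReduced (L ⊗[A] A') := fun L _ _ =>
    FlatLoc6.isReduced_baseChange_field A' (fun p _ => FlatLoc6.geomReduced_of_isGeomNormal (h.2 p)) L
  let K := FractionRing (Localization.AtPrime q)
  haveI : (RingHom.ker (algebraMap A K)).IsPrime := RingHom.ker_isPrime _
  obtain ⟨_, _⟩ := FlatLoc6.exists_residueAlgebra (L := K) (RingHom.ker (algebraMap A K)) rfl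
  haveI := FlatLoc6.isNoetherianRing_fiber (B := A') (RingHom.ker (algebraMap A K))
  have hT : IdemSep (A' ⊗[A] K) ∧ FracClosed (A' ⊗[A] K) :=
    of_equiv ((Algebra.TensorProduct.cancelBaseChange A (RingHom.ker (algebraMap A K)).ResidueField K K A').toRingEquiv.trans
      (Algebra.TensorProduct.comm A K A').toRingEquiv)
      (fieldTensor_normal K ((RingHom.ker (algebraMap A K)).Fiber A') (h.2 _))
  have := normal_of_model hE (Localization.AtPrime q) hT
  exact isNormalRing_of this.1 this.2

section Field

variable {k : Type u} [Field k]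

theorem isField_tensor_insep (P L : Type u) [Field P] [Algebra k P] [IsPurelyInseparable k P] [Field L]
    [Algebra k L] [IsReduced (P ⊗[k] L)] : IsField (P ⊗[k] L) := by
  let j : L →ₐ[k] P ⊗[k] L := Algebra.TensorProduct.includeRight
  obtain ⟨q, hq⟩ := ExpChar.exists k
  haveI : Nontrivial (P ⊗[k] L) :=
    (Algebra.TensorProduct.includeRight_injective (A := P) (B := L) (algebraMap k P).injective).nontrivial
  haveI : ExpChar (P ⊗[k] L) q := expChar_of_injective_algebraMap (algebraMap k _).injective q
  have hpow : ∀ z : P ⊗[k] L, ∃ n : ℕ, ∃ a, j a = z ^ q ^ n := by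
    intro z
    induction z using TensorProduct.induction_on with
    | zero => exact ⟨0, 0, by simp⟩
    | tmul a w =>
      obtain ⟨n, b, hb⟩ := IsPurelyInseparable.pow_mem k q a
      refine ⟨n, algebraMap k L b * w ^ q ^ n, ?_⟩
      rw [Algebra.TensorProduct.tmul_pow, ← hb, ← Algebra.smul_def]
      show (1 : P) ⊗ₜ[k] (b • w ^ q ^ n) = _
      rw [← TensorProduct.smul_tmul, Algebra.smul_def, mul_one]
    | add a b ha hb =>
      obtain ⟨m, a', ha'⟩ := ha
      obtain ⟨n, b', hb'⟩ := hb
      refine ⟨m + n, a' ^ q ^ n + b' ^ q ^ m, ?_⟩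
      rw [map_add, map_pow, map_pow, ha', hb', add_pow_expChar_pow, ← pow_mul, ← pow_mul,
        ← pow_add, ← pow_add, add_comm n m]
  refine ⟨exists_pair_ne _, mul_comm, fun {a} ha => ?_⟩
  obtain ⟨n, b, hb⟩ := hpow a
  have hqn : 0 < q ^ n := expChar_pow_pos k q n
  have hb0 : b ≠ 0 := fun e => by
    rw [e, map_zero] at hb
    exact ha ((pow_eq_zero_iff hqn.ne').mp hb.symm)
  obtain ⟨m, hm⟩ := Nat.exists_eq_add_of_le' hqn
  refine ⟨a ^ m * j b⁻¹, ?_⟩
  rw [← mul_assoc, ← pow_succ', show m + 1 = q ^ n by omega, ← hb, ← map_mul, mul_inv_cancel₀ hb0, map_one]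

/-- `P ⊗ A` for a purely inseparable extension `P` is an integrally closed domain with fraction field
`P ⊗ L`. -/
theorem insep_model (A L P : Type u) [CommRing A] [IsDomain A] [Algebra k A] (hA : EGA4.IsGeomNormal k A)
    [Field L] [Algebra A L] [IsFractionRing A L] [Algebra k L] [IsScalarTower k A L]
    [Field P] [Algebra k P] [IsPurelyInseparable k P] :
    IsField (P ⊗[k] L) ∧ IsDomain (P ⊗[k] A) ∧ IsIntegrallyClosed (P ⊗[k] A) := by
  classical
  haveI := FlatLoc6.geomReduced_of_isGeomNormal hA
  haveI := geomReduced_fractionField (k := k) A L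
  haveI := FBaseLib.isReduced_field_tensor (k := k) L P
  have hL := isField_tensor_insep (k := k) P L
  letI := hL.toField
  let g := IsScalarTower.toAlgHom k A L
  have hinj : Function.Injective (Algebra.TensorProduct.map (AlgHom.id k P) g) :=
    Module.Flat.lTensor_preserves_injective_linearMap (M := P) g.toLinearMap (IsFractionRing.injective A L)
  haveI : IsDomain (P ⊗[k] A) := hinj.isDomain (Algebra.TensorProduct.map (AlgHom.id k P) g).toRingHom
  refine ⟨hL, inferInstance, isIntegrallyClosed_of_normal _ ?_⟩
  have h : IdemSep (P ⊗[k] A) ∧ FracClosed (P ⊗[k] A) := by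
    refine of_directed fun s => ?_
    choose t ht using fun x : P ⊗[k] A => FlatLoc6.exists_finset_defined k P A x
    let K₀ := IntermediateField.adjoin k ((s.biUnion t : Finset P) : Set P)
    haveI : FiniteDimensional k K₀ :=
      IntermediateField.finiteDimensional_adjoin fun x _ => Algebra.IsIntegral.isIntegral x
    have hinj' : Function.Injective (Algebra.TensorProduct.map K₀.val (AlgHom.id k A)).toRingHom :=
      Module.Flat.rTensor_preserves_injective_linearMap (M := A) K₀.val.toLinearMap Subtype.val_injective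
    haveI : NoZeroDivisors (K₀ ⊗[k] A) :=
      hinj'.noZeroDivisors _ (map_zero _) (map_mul _)
    refine ⟨K₀ ⊗[k] A, inferInstance, (Algebra.TensorProduct.map K₀.val (AlgHom.id k A)).toRingHom, hinj', ?_,
      idemSep_of_domain _, fracClosed_of_normal (hA K₀ inferInstance)⟩
    intro x hx
    obtain ⟨y, hy⟩ := ht x K₀ fun a ha =>
      IntermediateField.subset_adjoin k _ (Finset.mem_biUnion.mpr ⟨x, hx, ha⟩)
    exact ⟨y, hy⟩
  exact isNormalRing_of h.1 h.2

/-- Integral closedness of `K ⊗ A` in `K ⊗ L` through a perfect intermediate field. -/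
theorem mem_range_perfect (A L P K' : Type u) [CommRing A] [IsDomain A] [Algebra k A]
    (hA : EGA4.IsGeomNormal k A) [Field L] [Algebra A L] [IsFractionRing A L] [Algebra k L] [IsScalarTower k A L]
    [Field P] [Algebra k P] [IsPurelyInseparable k P] [PerfectField P] [Field K'] [Algebra P K'] [Algebra k K']
    [IsScalarTower k P K'] (y : K' ⊗[k] L) (hy : (baseMap (A := k) K' A L).toRingHom.IsIntegralElem y) :
    y ∈ (baseMap (A := k) K' A L).toRingHom.range := by
  obtain ⟨hL, hdom, hic⟩ := insep_model (k := k) A L P hA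
  letI := hL.toField
  haveI := hdom
  haveI := hic
  let g : P ⊗[k] A →ₐ[P] P ⊗[k] L :=
    Algebra.TensorProduct.map (AlgHom.id P P) (IsScalarTower.toAlgHom k A L)
  letI : Algebra (P ⊗[k] A) (P ⊗[k] L) := g.toRingHom.toAlgebra
  haveI : IsScalarTower P (P ⊗[k] A) (P ⊗[k] L) := .of_algebraMap_eq fun x => (g.commutes x).symm
  haveI : FaithfulSMul (P ⊗[k] A) (P ⊗[k] L) := (faithfulSMul_iff_algebraMap_injective _ _).mpr
    (Module.Flat.lTensor_preserves_injective_linearMap (M := P)
      (IsScalarTower.toAlgHom k A L).toLinearMap (IsFractionRing.injective A L))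
  haveI : IsFractionRing (P ⊗[k] A) (P ⊗[k] L) := by
    refine IsFractionRing.of_field _ _ fun z => ?_
    have hz : ∃ (a : P ⊗[k] A) (c : A), c ≠ 0 ∧ z * (1 ⊗ₜ[k] algebraMap A L c) = g a := by
      induction z using TensorProduct.induction_on with
      | zero => exact ⟨0, 1, one_ne_zero, by simp⟩
      | tmul p x =>
        obtain ⟨a, c, hc, rfl⟩ := IsFractionRing.div_surjective A x
        refine ⟨p ⊗ₜ a, c, nonZeroDivisors.ne_zero hc, ?_⟩
        have hc0 : algebraMap A L c ≠ 0 := (map_ne_zero_iff _ (IsFractionRing.injective A L)).mpr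
          (nonZeroDivisors.ne_zero hc)
        simp [g, div_mul_cancel₀ _ hc0]
      | add z₁ z₂ h₁ h₂ =>
        obtain ⟨a₁, c₁, n₁, e₁⟩ := h₁
        obtain ⟨a₂, c₂, n₂, e₂⟩ := h₂
        refine ⟨a₁ * (1 ⊗ₜ c₂) + a₂ * (1 ⊗ₜ c₁), c₁ * c₂, mul_ne_zero n₁ n₂, ?_⟩
        rw [map_add g, map_mul g, map_mul g, ← e₁, ← e₂]
        simp only [g, Algebra.TensorProduct.map_tmul, map_mul, map_one, IsScalarTower.coe_toAlgHom']
        rw [← mul_one (1 : P), ← Algebra.TensorProduct.tmul_mul_tmul, mul_one]
        ring
    obtain ⟨a, c, hc, he⟩ := hz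
    refine ⟨a, 1 ⊗ₜ c, ?_⟩
    have hne : (1 : P) ⊗ₜ[k] algebraMap A L c ≠ 0 := fun h0 =>
      hc ((map_eq_zero_iff _ (IsFractionRing.injective A L)).mp
        ((map_eq_zero_iff (Algebra.TensorProduct.includeRight (R := k) (A := P) (B := L))
          (Algebra.TensorProduct.includeRight_injective (algebraMap k P).injective)).mp h0))
    show z = g a / g (1 ⊗ₜ c)
    rw [show g (1 ⊗ₜ[k] c) = (1 : P) ⊗ₜ[k] algebraMap A L c by simp [g], ← he, mul_div_cancel_right₀ _ hne]
  haveI := GrpSchLib.isGeometricallyReduced_of_isReduced P K'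
  have hE : ∀ (F : Type u) [Field F] [Algebra P F], IsReduced (F ⊗[P] K') := fun F _ _ =>
    FBaseLib.isReduced_field_tensor (k := P) K' F
  let cA := (Algebra.TensorProduct.cancelBaseChange k P P K' A).toRingEquiv
  let cL := (Algebra.TensorProduct.cancelBaseChange k P P K' L).toRingEquiv
  have hsq : (cL.toRingHom).comp (baseMap (A := P) K' (P ⊗[k] A) (P ⊗[k] L)).toRingHom =
      (baseMap (A := k) K' A L).toRingHom.comp cA.toRingHom := by
    refine RingHom.ext fun z => ?_
    show cL (baseMap (A := P) K' (P ⊗[k] A) (P ⊗[k] L) z) = baseMap (A := k) K' A L (cA z)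
    induction z using TensorProduct.induction_on with
    | zero => simp only [map_zero]
    | tmul a w =>
      induction w using TensorProduct.induction_on with
      | zero => rw [tmul_zero]; simp only [map_zero]
      | tmul p x => simp [cL, cA, g, RingHom.algebraMap_toAlgebra]
      | add u v hu hv => simp only [tmul_add, map_add] at hu hv ⊢; rw [hu, hv]
    | add u v hu hv => simp only [map_add] at hu hv ⊢; rw [hu, hv]
  obtain ⟨p, hp, hpy⟩ := hy
  have hint := isIntegralElem_of_square cA.toRingHom
    (baseMap (A := P) K' (P ⊗[k] A) (P ⊗[k] L)).toRingHom (baseMap (A := k) K' A L).toRingHom cL.toRingHom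
    cL.injective hsq p hp
    ((Polynomial.lifts_iff_coeff_lifts (f := cA.toRingHom) p).mpr fun n =>
      ⟨cA.symm (p.coeff n), cA.apply_symm_apply _⟩) (cL.symm y)
    (by rw [show cL.toRingHom (cL.symm y) = y from cL.apply_symm_apply y]; exact hpy)
  obtain ⟨z, hz⟩ := mem_range_of_isIntegral hE (cL.symm y) hint
  refine ⟨cA z, ?_⟩
  rw [← cL.apply_symm_apply y, ← hz]
  exact (RingHom.congr_fun hsq z).symm

/-- `K ⊗ A` is normal for a geometrically normal integrally closed domain `A` and any field `K`. -/
theorem fieldTensor_normal_domain (A : Type u) [CommRing A] [IsDomain A] [Algebra k A]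
    (hA : EGA4.IsGeomNormal k A) (K : Type u) [Field K] [Algebra k K] :
    IdemSep (K ⊗[k] A) ∧ FracClosed (K ⊗[k] A) := by
  let L := FractionRing A
  haveI := FlatLoc6.geomReduced_of_isGeomNormal hA
  haveI := geomReduced_fractionField (k := k) A L
  have hT := fieldTensor_normal (k := k) K L (isGeomNormal_of_field L)
  let g := IsScalarTower.toAlgHom k A L
  refine of_integrallyClosed_sub (baseMap (A := k) K A L).toRingHom
    (Module.Flat.lTensor_preserves_injective_linearMap (M := K) g.toLinearMap (IsFractionRing.injective A L))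
    (isNormalRing_of hT.1 hT.2) hT.1 fun y hy => ?_
  let K' := AlgebraicClosure K
  let i : K →ₐ[k] K' := IsScalarTower.toAlgHom k K K'
  obtain ⟨r, hr⟩ := LinearMap.exists_leftInverse_of_injective i.toLinearMap
    (LinearMap.ker_eq_bot.mpr i.toRingHom.injective)
  have hy' : (baseMap (A := k) K' A L).toRingHom.IsIntegralElem
      (Algebra.TensorProduct.map i (AlgHom.id k L) y) := by
    obtain ⟨p, hp, hpy⟩ := hy
    refine ⟨p.map (Algebra.TensorProduct.map i (AlgHom.id k A)).toRingHom, hp.map _, ?_⟩
    have hc : (baseMap (A := k) K' A L).toRingHom.comp (Algebra.TensorProduct.map i (AlgHom.id k A)).toRingHom =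
        (Algebra.TensorProduct.map i (AlgHom.id k L)).toRingHom.comp (baseMap (A := k) K A L).toRingHom := by
      apply congrArg AlgHom.toRingHom (a₁ := (baseMap (A := k) K' A L).comp (Algebra.TensorProduct.map i (AlgHom.id k A)))
        (a₂ := (Algebra.TensorProduct.map i (AlgHom.id k L)).comp (baseMap (A := k) K A L))
      exact Algebra.TensorProduct.ext' fun a b => rfl
    rw [Polynomial.eval₂_map, hc]
    show Polynomial.eval₂ _ ((Algebra.TensorProduct.map i (AlgHom.id k L)).toRingHom y) p = 0
    rw [← Polynomial.hom_eval₂, hpy, map_zero]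
  obtain ⟨z, hz⟩ := mem_range_perfect (k := k) A L (perfectClosure k K') K' hA _ hy'
  refine ⟨TensorProduct.map r LinearMap.id z, ?_⟩
  have hnat : ∀ z, baseMap (A := k) K A L (TensorProduct.map r LinearMap.id z) =
      TensorProduct.map r LinearMap.id (baseMap (A := k) K' A L z) := by
    intro z
    induction z using TensorProduct.induction_on with
    | zero => simp only [map_zero]
    | tmul a b => rfl
    | add u v hu hv => simp only [map_add] at hu hv ⊢; rw [hu, hv]
  have hret : ∀ y, TensorProduct.map r (LinearMap.id (R := k) (M := L))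
      (Algebra.TensorProduct.map i (AlgHom.id k L) y) = y := by
    intro y
    induction y using TensorProduct.induction_on with
    | zero => simp only [map_zero]
    | tmul a b => simp [show r (i a) = a from LinearMap.congr_fun hr a]
    | add u v hu hv => simp only [map_add] at hu hv ⊢; rw [hu, hv]
  exact (hnat z).trans ((congrArg _ hz).trans (hret y))

/-- Geometric normality passes to localizations. -/
theorem isGeomNormal_localization {A : Type u} [CommRing A] [Algebra k A] (hA : EGA4.IsGeomNormal k A)
    (M : Submonoid A) (C : Type u) [CommRing C] [Algebra A C] [IsLocalization M C] [Algebra k C]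
    [IsScalarTower k A C] : EGA4.IsGeomNormal k C := by
  intro k' _ _ hk
  letI : Algebra (k' ⊗[k] A) (k' ⊗[k] C) :=
    (Algebra.TensorProduct.map (AlgHom.id k k') (IsScalarTower.toAlgHom k A C)).toAlgebra
  haveI : IsScalarTower k' (k' ⊗[k] A) (k' ⊗[k] C) :=
    .of_algebraMap_eq <| by intro; simp [RingHom.algebraMap_toAlgebra]
  haveI := IsLocalization.tensorProduct_tensorProduct_right k k' M C
    (by ext; simp [RingHom.algebraMap_toAlgebra])
  exact FlatLoc6.isNormalRing_of_isLocalization
    (M.map (Algebra.TensorProduct.includeRight (R := k) (A := k'))) _ (hA k' hk)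

/-- `A ⊗ B` is normal for a geometrically normal algebra `A` and a normal algebra `B`. -/
theorem normal_of_isGeomNormal (A B : Type u) [CommRing A] [Algebra k A] [CommRing B] [Algebra k B]
    (hA : EGA4.IsGeomNormal k A) (hB : EGA4.IsNormalRing B) : EGA4.IsNormalRing (A ⊗[k] B) := by
  haveI := FlatLoc6.geomReduced_of_isGeomNormal hA
  refine normal_of_local fun q _ => ?_
  haveI := (hB q).1
  haveI := (hB q).2
  let K := FractionRing (Localization.AtPrime q)
  have hTn : EGA4.IsNormalRing (A ⊗[k] Localization.AtPrime q) := by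
    refine FlatLoc6.isNormalRing_of_ringEquiv (R := Localization.AtPrime q ⊗[k] A)
      (Algebra.TensorProduct.comm k _ A).toRingEquiv (normal_of_local fun p _ => ?_)
    have hAp := isGeomNormal_localization hA p.primeCompl (Localization.AtPrime p)
    haveI := (FlatLoc6.isNormalRing_of_isGeomNormal hA p).1
    haveI := FlatLoc6.geomReduced_of_isGeomNormal hAp
    have hT : IdemSep (Localization.AtPrime p ⊗[k] K) ∧ FracClosed (Localization.AtPrime p ⊗[k] K) :=
      of_equiv (Algebra.TensorProduct.comm k K (Localization.AtPrime p)).toRingEquiv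
        (fieldTensor_normal_domain (Localization.AtPrime p) hAp K)
    have h := of_equiv (Algebra.TensorProduct.comm k (Localization.AtPrime p) (Localization.AtPrime q)).toRingEquiv
      (normal_of_model (fun L _ _ => FBaseLib.isReduced_field_tensor (k := k) (Localization.AtPrime p) L)
        (Localization.AtPrime q) hT)
    exact isNormalRing_of h.1 h.2
  exact hTn

end Field

end Groth.Agent.IntBC
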