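import Groth.Agent.IntBC.Branch
import Groth.Agent.BrnchLib.Unibranch
import Mathlib.RingTheory.Flat.FaithfullyFlat.Algebra
import Mathlib.RingTheory.Flat.TorsionFree

/-!
# Faithfully flat descent of geometric unibranchness
-/

namespace Groth.Agent.IntBC

universe u

open IsLocalRing TensorProduct

theorem Branch.of_ringEquiv {O O' : Type u} [CommRing O] [CommRing O'] (e : O ≃+* O') (h : Branch O) :
    Branch O' := by
  obtain ⟨D, _, _, _, _, hD, hker, hint, hins⟩ := h
  letI : Algebra O' D := ((algebraMap O D).comp e.symm.toRingHom).toAlgebra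
  refine ⟨D, inferInstance, inferInstance, inferInstance, inferInstance, hD, fun a ha => ?_, ⟨?_⟩, fun d => ?_⟩
  · simpa using (hker (e.symm a) ha).map e.toRingHom
  · exact (RingHom.isIntegral_of_surjective e.symm.toRingHom e.symm.surjective).trans _ _ hint.isIntegral
  · obtain ⟨n, a, ha⟩ := hins d
    refine ⟨n, e a, ?_⟩
    show d ^ _ - algebraMap O D (e.symm (e a)) ∈ _
    rwa [e.symm_apply_apply]

/-- One geometric point of the normalization over the closed point suffices. -/
theorem isGeomUnibranch_of_points {A : Type u} [CommRing A] [IsLocalRing A] (hdom : IsDomain (CAlg2.red A))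
    (h : ∀ (Ω : Type u) [Field Ω] (u v : CAlg2.normRed A →+* Ω),
      let g := (algebraMap (CAlg2.red A) (CAlg2.normRed A)).comp (Ideal.Quotient.mk (nilradical A))
      u.comp g = v.comp g → RingHom.ker (u.comp g) = maximalIdeal A → u = v) :
    CAlg2.IsGeomUnibranch A := by
  haveI := hdom
  let Ω := AlgebraicClosure (ResidueField A)
  have key : ∀ (m m' : MaximalSpectrum (CAlg2.normRed A)) (σ : Brnch.Emb A m) (τ : Brnch.Emb A m'),
      σ.1.comp (Ideal.Quotient.mk m.asIdeal) = τ.1.comp (Ideal.Quotient.mk m'.asIdeal) := fun m m' σ τ => by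
    refine h Ω _ _ (σ.2.trans τ.2.symm) ?_
    refine (congrArg RingHom.ker σ.2).trans ?_
    show RingHom.ker ((algebraMap (ResidueField A) Ω).comp (residue A)) = _
    rw [← RingHom.comap_ker, (RingHom.injective_iff_ker_eq_bot _).mp (algebraMap (ResidueField A) Ω).injective]
    exact Ideal.mk_ker
  haveI : Nontrivial (CAlg2.normRed A) := inferInstance
  refine ⟨⟨hdom, ?_⟩, fun m _ => (BrnchLib.subsingleton_emb_iff A ⟨m, inferInstance⟩).2.1 ⟨fun σ τ =>
    Subtype.ext (RingHom.cancel_right Ideal.Quotient.mk_surjective |>.mp (key _ _ σ τ))⟩⟩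
  obtain ⟨m₀, hm₀⟩ := Ideal.exists_maximal (CAlg2.normRed A)
  refine IsLocalRing.of_unique_max_ideal ⟨m₀, hm₀, fun m hm => ?_⟩
  obtain ⟨σ⟩ := (BrnchLib.subsingleton_emb_iff A ⟨m, hm⟩).1
  obtain ⟨τ⟩ := (BrnchLib.subsingleton_emb_iff A ⟨m₀, hm₀⟩).1
  letI := Ideal.Quotient.field m
  letI := Ideal.Quotient.field m₀
  have hm' := congrArg RingHom.ker (key ⟨m, hm⟩ ⟨m₀, hm₀⟩ σ τ)
  rw [← RingHom.comap_ker, ← RingHom.comap_ker, (RingHom.injective_iff_ker_eq_bot _).mp σ.1.injective,
    (RingHom.injective_iff_ker_eq_bot _).mp τ.1.injective, ← RingHom.ker_eq_comap_bot,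
    ← RingHom.ker_eq_comap_bot, Ideal.mk_ker, Ideal.mk_ker] at hm'
  exact hm'

/-- Points of a birational integral domain over `A` lift uniquely after flat local base change. -/
theorem eq_of_radicial_points {A B A' B' : Type u} [CommRing A] [IsLocalRing A] [CommRing B] [IsLocalRing B]
    [Algebra A B] [Module.Flat A B] [IsLocalHom (algebraMap A B)] [CommRing A'] [IsDomain A'] [Algebra A A']
    [CommRing B'] [IsLocalRing B'] [Algebra B B'] [Algebra A B'] [IsScalarTower A B B']
    [Algebra.IsIntegral B B'] (ψ : A' →ₐ[A] B') (hker : ∀ b, algebraMap B B' b = 0 → IsNilpotent b)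
    (hden : ∀ x : A', ∃ s a : A, algebraMap A A' s ≠ 0 ∧ algebraMap A A' s * x = algebraMap A A' a)
    (hins : ∀ d : B', ∃ (n : ℕ) (b : B),
      d ^ (ringExpChar (ResidueField B')) ^ n - algebraMap B B' b ∈ maximalIdeal B')
    (Ω : Type u) [Field Ω] (u v : A' →+* Ω) (huv : u.comp (algebraMap A A') = v.comp (algebraMap A A'))
    (hu : RingHom.ker (u.comp (algebraMap A A')) = maximalIdeal A) : u = v := by
  let wb : ResidueField A →+* Ω := Ideal.Quotient.lift _ (u.comp (algebraMap A A')) fun a ha => by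
    rwa [← RingHom.mem_ker, hu]
  letI : Algebra (ResidueField A) Ω := wb.toAlgebra
  haveI : Nontrivial (Ω ⊗[ResidueField A] ResidueField B) :=
    (Algebra.TensorProduct.includeLeft_injective (S := Ω) (A := Ω) (B := ResidueField B)
      (algebraMap (ResidueField A) (ResidueField B)).injective).nontrivial
  obtain ⟨I, hI⟩ := Ideal.exists_maximal (Ω ⊗[ResidueField A] ResidueField B)
  letI := Ideal.Quotient.field I
  let Ω' := (Ω ⊗[ResidueField A] ResidueField B) ⧸ I
  let i : Ω →+* Ω' := (Ideal.Quotient.mk I).comp Algebra.TensorProduct.includeLeftRingHom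
  let j : ResidueField B →+* Ω' :=
    (Ideal.Quotient.mk I).comp (Algebra.TensorProduct.includeRight (R := ResidueField A) (A := Ω)).toRingHom
  let w : B →+* Ω' := j.comp (residue B)
  letI : Algebra A Ω' := (w.comp (algebraMap A B)).toAlgebra
  have hij : ∀ a, i (u (algebraMap A A' a)) = algebraMap A Ω' a := fun a => by
    have h1 : i (algebraMap (ResidueField A) Ω (residue A a)) =
        j (algebraMap (ResidueField A) (ResidueField B) (residue A a)) :=
      congrArg (Ideal.Quotient.mk I) (Algebra.TensorProduct.tmul_one_eq_one_tmul (R := ResidueField A) (residue A a))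
    exact h1
  let T := A' ⊗[A] B
  let ψT : T →ₐ[A] B' := Algebra.TensorProduct.lift ψ (IsScalarTower.toAlgHom A B B') fun _ _ => Commute.all _ _
  have hψT : ∀ b : B, ψT ((1 : A') ⊗ₜ[A] b) = algebraMap B B' b := fun b => by
    show ψ 1 * algebraMap B B' b = _
    rw [map_one, one_mul]
  let U : T →ₐ[A] Ω' := Algebra.TensorProduct.lift ⟨i.comp u, hij⟩ ⟨w, fun _ => rfl⟩ fun _ _ => Commute.all _ _
  let V : T →ₐ[A] Ω' := Algebra.TensorProduct.lift
    ⟨i.comp v, fun a => by
      show i (v (algebraMap A A' a)) = _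
      rw [← hij, show u (algebraMap A A' a) = v (algebraMap A A' a) from RingHom.congr_fun huv a]⟩
    ⟨w, fun _ => rfl⟩ fun _ _ => Commute.all _ _
  -- every element becomes, after a denominator, an element of `B`
  have hfrac : ∀ z : T, ∃ (s : A) (b : B), algebraMap A A' s ≠ 0 ∧
      algebraMap A A' s • z = (1 : A') ⊗ₜ[A] b := fun z => by
    induction z using TensorProduct.induction_on with
    | zero => exact ⟨1, 0, by simp, by simp⟩
    | tmul x b =>
      obtain ⟨s, a, hs, ha⟩ := hden x
      refine ⟨s, a • b, hs, ?_⟩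
      rw [smul_tmul', smul_eq_mul, ha, Algebra.algebraMap_eq_smul_one, smul_tmul]
    | add z₁ z₂ h₁ h₂ =>
      obtain ⟨s₁, b₁, hs₁, e₁⟩ := h₁
      obtain ⟨s₂, b₂, hs₂, e₂⟩ := h₂
      refine ⟨s₁ * s₂, s₂ • b₁ + s₁ • b₂, by rw [map_mul]; exact mul_ne_zero hs₁ hs₂, ?_⟩
      have hsmul : ∀ (s : A) (b : B), algebraMap A A' s • ((1 : A') ⊗ₜ[A] b) = (1 : A') ⊗ₜ[A] (s • b) :=
        fun s b => by rw [algebraMap_smul, tmul_smul]
      rw [smul_add, map_mul, mul_smul (algebraMap A A' s₁) _ z₂, mul_comm (algebraMap A A' s₁) (algebraMap A A' s₂),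
        mul_smul, e₁, e₂, hsmul, hsmul, tmul_add]
  have hnil : ∀ z : T, ψT z = 0 → IsNilpotent z := fun z hz => by
    obtain ⟨s, b, hs, hsb⟩ := hfrac z
    have hb : algebraMap B B' b = 0 := by
      rw [← hψT, ← hsb, algebraMap_smul, map_smul, hz, smul_zero]
    obtain ⟨n, hn⟩ := (hker b hb).map (Algebra.TensorProduct.includeRight (R := A) (A := A') (B := B))
    refine ⟨n, ?_⟩
    have h1 : (algebraMap A A' s) ^ n • z ^ n = 0 := by
      rw [← smul_pow, hsb]; exact hn
    exact (smul_eq_zero.mp h1).resolve_left (pow_ne_zero _ hs)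
  have hψint : ψT.toRingHom.IsIntegral := by
    refine RingHom.IsIntegral.tower_top (Algebra.TensorProduct.includeRight (R := A) (A := A')).toRingHom _ ?_
    rw [show ψT.toRingHom.comp (Algebra.TensorProduct.includeRight (R := A) (A := A')).toRingHom =
      algebraMap B B' from RingHom.ext hψT]
    exact Algebra.IsIntegral.isIntegral
  let c := ringExpChar (ResidueField B')
  haveI : ExpChar (ResidueField B') c := ringExpChar.expChar _
  have hBker : ∀ Q : Ideal B', Q.IsMaximal → Q.comap (algebraMap B B') = maximalIdeal B := fun Q hQ => by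
    exact IsLocalRing.eq_maximalIdeal (Ideal.isMaximal_comap_of_isIntegral_of_isMaximal Q)
  let χ : ResidueField B →+* ResidueField B' :=
    Ideal.quotientMap _ (algebraMap B B') (hBker _ (maximalIdeal.isMaximal B')).ge
  haveI : ExpChar (ResidueField B) c := (RingHom.expChar_iff χ χ.injective c).mpr inferInstance
  haveI : ExpChar Ω' c := (RingHom.expChar_iff j j.injective c).mp inferInstance
  -- any point over the closed points factors through the closed point upstairs
  have hpt : ∀ W : T →ₐ[A] Ω', (∀ b, W ((1 : A') ⊗ₜ[A] b) = w b) → ∀ (z : T) (n : ℕ) (b : B),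
      ψT z ^ c ^ n - algebraMap B B' b ∈ maximalIdeal B' → W z ^ c ^ n = w b := by
    intro W hW z n b hb
    haveI : (RingHom.ker W).IsPrime := RingHom.ker_isPrime _
    letI := ψT.toRingHom.toAlgebra
    haveI : Algebra.IsIntegral T B' := ⟨hψint⟩
    obtain ⟨Q, -, hQp, hQ⟩ := Ideal.exists_ideal_over_prime_of_isIntegral (RingHom.ker W) (⊥ : Ideal B')
      fun x hx => nilradical_le_prime _ (mem_nilradical.mpr (hnil x hx))
    haveI := hQp
    have hQB : Q.comap (algebraMap B B') = maximalIdeal B := by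
      ext x
      rw [Ideal.mem_comap, ← hψT, show ψT ((1 : A') ⊗ₜ[A] x) = algebraMap T B' ((1 : A') ⊗ₜ[A] x) from rfl,
        ← Ideal.mem_comap, hQ, RingHom.mem_ker, hW]
      show j (residue B x) = 0 ↔ _
      rw [map_eq_zero_iff _ j.injective]
      exact Ideal.Quotient.eq_zero_iff_mem
    haveI : Q.IsMaximal := Ideal.isMaximal_of_isIntegral_of_isMaximal_comap (R := B) Q
      (hQB ▸ maximalIdeal.isMaximal B)
    have hQm : Q = maximalIdeal B' := IsLocalRing.eq_maximalIdeal inferInstance
    have h1 : z ^ c ^ n - (1 : A') ⊗ₜ[A] b ∈ RingHom.ker W := by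
      rw [← hQ, Ideal.mem_comap, map_sub, map_pow, hQm]
      show ψT z ^ c ^ n - ψT _ ∈ _
      rwa [hψT]
    rwa [RingHom.mem_ker, map_sub, map_pow, hW, sub_eq_zero] at h1
  ext x
  apply i.injective
  obtain ⟨n, b, hb⟩ := hins (ψT (x ⊗ₜ[A] 1))
  have hU := hpt U (fun b => by show i (u 1) * w b = _; rw [map_one, map_one, one_mul]) _ n b hb
  have hV := hpt V (fun b => by show i (v 1) * w b = _; rw [map_one, map_one, one_mul]) _ n b hb
  have h2 : (U (x ⊗ₜ[A] 1) - V (x ⊗ₜ[A] 1)) ^ c ^ n = 0 := by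
    rw [sub_pow_expChar_pow, hU, hV, sub_self]
  have h3 : i (u x) * w 1 = i (v x) * w 1 := sub_eq_zero.mp (eq_zero_of_pow_eq_zero h2)
  rwa [map_one, mul_one, mul_one] at h3

/-- Geometric unibranchness descends along flat local homomorphisms. -/
theorem isGeomUnibranch_descent {A B : Type u} [CommRing A] [IsLocalRing A] [CommRing B] [IsLocalRing B]
    [Algebra A B] [Module.Flat A B] [IsLocalHom (algebraMap A B)] (hB : CAlg2.IsGeomUnibranch B) :
    CAlg2.IsGeomUnibranch A := by
  obtain ⟨⟨hBdom, hBloc⟩, hBins⟩ := hB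
  haveI := hBdom
  haveI := hBloc
  haveI : Module.FaithfullyFlat A B := Module.FaithfullyFlat.of_flat_of_isLocalHom
  let gr : CAlg2.red A →+* CAlg2.red B :=
    Ideal.quotientMap _ (algebraMap A B) fun a ha => (mem_nilradical.mp ha).map (algebraMap A B)
  have hgr : Function.Injective gr := Ideal.quotientMap_injective' fun a ha => by
    obtain ⟨n, hn⟩ := mem_nilradical.mp (Ideal.mem_comap.mp ha)
    rw [← map_pow] at hn
    exact mem_nilradical.mpr ⟨n, (FaithfulSMul.algebraMap_injective A B) (hn.trans (map_zero _).symm)⟩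
  haveI hdom : IsDomain (CAlg2.red A) := hgr.isDomain
  refine isGeomUnibranch_of_points hdom fun Ω _ u v huv hu => ?_
  let g : A →+* CAlg2.normRed A :=
    (algebraMap (CAlg2.red A) (CAlg2.normRed A)).comp (Ideal.Quotient.mk (nilradical A))
  let gB : B →+* CAlg2.normRed B :=
    (algebraMap (CAlg2.red B) (CAlg2.normRed B)).comp (Ideal.Quotient.mk (nilradical B))
  let K := FractionRing (CAlg2.red A)
  let L := FractionRing (CAlg2.red B)
  let ι : K →+* L := IsFractionRing.lift (g := (algebraMap (CAlg2.red B) L).comp gr)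
    ((IsFractionRing.injective _ L).comp hgr)
  have hι : ∀ a, ι (algebraMap _ K a) = algebraMap _ L (gr a) := fun a => IsFractionRing.lift_algebraMap _ a
  have hmem : ∀ x : CAlg2.normRed A, ι x.1 ∈ integralClosure (CAlg2.red B) L := fun x => by
    obtain ⟨P, hP, he⟩ := (x.2 : IsIntegral (CAlg2.red A) (x.1 : K))
    refine ⟨P.map gr, hP.map _, ?_⟩
    rw [Polynomial.eval₂_map, show (algebraMap (CAlg2.red B) L).comp gr = ι.comp (algebraMap _ K) from
      RingHom.ext fun a => (hι a).symm, ← Polynomial.hom_eval₂, he, map_zero]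
  letI : Algebra A (CAlg2.normRed A) := g.toAlgebra
  letI : Algebra B (CAlg2.normRed B) := gB.toAlgebra
  letI : Algebra A (CAlg2.normRed B) := (gB.comp (algebraMap A B)).toAlgebra
  haveI : IsScalarTower A B (CAlg2.normRed B) := IsScalarTower.of_algebraMap_eq' rfl
  haveI : Algebra.IsIntegral B (CAlg2.normRed B) :=
    ⟨(RingHom.isIntegral_of_surjective _ Ideal.Quotient.mk_surjective).trans _ _
      (Algebra.IsIntegral.isIntegral (R := CAlg2.red B))⟩
  let ψ : CAlg2.normRed A →ₐ[A] CAlg2.normRed B :=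
    { toRingHom := (ι.comp (integralClosure (CAlg2.red A) K).val.toRingHom).codRestrict
        (integralClosure (CAlg2.red B) L) hmem
      commutes' := fun a => Subtype.ext (hι (Ideal.Quotient.mk _ a)) }
  refine eq_of_radicial_points (A := A) (B := B) (A' := CAlg2.normRed A) (B' := CAlg2.normRed B) ψ (fun b hb => ?_) (fun x => ?_) (fun d => ?_) Ω u v huv hu
  · exact Ideal.Quotient.eq_zero_iff_mem.mp (IsFractionRing.injective (CAlg2.red B) L
      ((congrArg Subtype.val (hb : gB b = 0)).trans (map_zero _).symm))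
  · obtain ⟨a, s, hs, he⟩ := IsFractionRing.div_surjective (CAlg2.red A) (x.1 : K)
    obtain ⟨a, rfl⟩ := Ideal.Quotient.mk_surjective a
    obtain ⟨s, rfl⟩ := Ideal.Quotient.mk_surjective s
    have hs0 : algebraMap (CAlg2.red A) K (Ideal.Quotient.mk _ s) ≠ 0 :=
      (map_ne_zero_iff _ (IsFractionRing.injective _ K)).mpr (nonZeroDivisors.ne_zero hs)
    refine ⟨s, a, fun h => hs0 (congrArg Subtype.val h), Subtype.ext ?_⟩
    show algebraMap (CAlg2.red A) K (Ideal.Quotient.mk _ s) * x.1 = algebraMap (CAlg2.red A) K (Ideal.Quotient.mk _ a)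
    rw [← he, mul_div_cancel₀ _ hs0]
  · obtain ⟨n, b, hb⟩ := hBins (maximalIdeal (CAlg2.normRed B)) (Ideal.Quotient.mk _ d)
    refine ⟨n, b, ?_⟩
    rw [← Ideal.Quotient.eq_zero_iff_mem, map_sub, map_pow, sub_eq_zero]
    exact hb.symm

end Groth.Agent.IntBC
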