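import Groth.Prelude.Def_CAlg2
import Mathlib.RingTheory.Flat.Basic
import Mathlib.RingTheory.Ideal.GoingUp
import Mathlib.RingTheory.LocalRing.ResidueField.Basic
import Mathlib.RingTheory.Localization.AtPrime.Basic
import Mathlib.RingTheory.IntegralClosure.IntegrallyClosed
import Mathlib.RingTheory.IntegralClosure.IntegralRestrict
import Mathlib.FieldTheory.PurelyInseparable.Basic

/-!
# A criterion for geometric unibranchness and its permanence
-/

namespace Groth.Agent.IntBC

universe u

open IsLocalRing TensorProduct Polynomial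

/-- An integral map with nilpotent kernel to a normal local domain with radicial residue extension. -/
def Branch (O : Type u) [CommRing O] : Prop :=
  ∃ (D : Type u) (_ : CommRing D) (_ : IsDomain D) (_ : IsLocalRing D) (_ : Algebra O D),
    IsIntegrallyClosed D ∧ (∀ a : O, algebraMap O D a = 0 → IsNilpotent a) ∧ Algebra.IsIntegral O D ∧
    ∀ d : D, ∃ (n : ℕ) (a : O), d ^ (ringExpChar (ResidueField D)) ^ n - algebraMap O D a ∈ maximalIdeal D

theorem branch_of_normal (O : Type u) [CommRing O] [IsDomain O] [IsLocalRing O] [IsIntegrallyClosed O] :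
    Branch O :=
  ⟨O, inferInstance, inferInstance, inferInstance, Algebra.id O, inferInstance,
    fun a ha => by rw [show a = 0 from ha]; exact IsNilpotent.zero, inferInstance,
    fun d => ⟨0, d, by simp⟩⟩

theorem branch_of_isGeomUnibranch {O : Type u} [CommRing O] [IsLocalRing O] (h : CAlg2.IsGeomUnibranch O) :
    Branch O := by
  obtain ⟨⟨hdom, hloc⟩, hins⟩ := h
  haveI := hdom
  haveI := hloc
  haveI : IsFractionRing (CAlg2.normRed O) (FractionRing (CAlg2.red O)) :=
    integralClosure.isFractionRing_of_finite_extension (FractionRing (CAlg2.red O)) _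
  let φ : O →+* CAlg2.normRed O :=
    (algebraMap (CAlg2.red O) (CAlg2.normRed O)).comp (Ideal.Quotient.mk (nilradical O))
  letI : Algebra O (CAlg2.normRed O) := φ.toAlgebra
  have hint : φ.IsIntegral :=
    (RingHom.isIntegral_of_surjective _ Ideal.Quotient.mk_surjective).trans _ _
      (Algebra.IsIntegral.isIntegral (R := CAlg2.red O))
  refine ⟨CAlg2.normRed O, inferInstance, inferInstance, hloc, inferInstance,
    integralClosure.isIntegrallyClosedOfFiniteExtension (FractionRing (CAlg2.red O)), fun a ha => ?_, ⟨hint⟩,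
    fun d => ?_⟩
  · exact Ideal.Quotient.eq_zero_iff_mem.mp (IsFractionRing.injective (CAlg2.red O) (FractionRing (CAlg2.red O))
      ((congrArg Subtype.val (ha : φ a = 0)).trans (map_zero _).symm))
  · obtain ⟨k, a, ha⟩ := hins (maximalIdeal (CAlg2.normRed O)) (Ideal.Quotient.mk _ d)
    refine ⟨k, a, ?_⟩
    rw [← Ideal.Quotient.eq_zero_iff_mem, map_sub, map_pow, sub_eq_zero]
    exact ha.symm

theorem isGeomUnibranch_of_branch {O : Type u} [CommRing O] [IsLocalRing O] (h : Branch O) :
    CAlg2.IsGeomUnibranch O := by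
  obtain ⟨D, _, _, _, _, hD, hker, hint, hins⟩ := h
  haveI := hD
  have hnil : nilradical O = RingHom.ker (algebraMap O D) :=
    le_antisymm (fun a ha => ((mem_nilradical.mp ha).map (algebraMap O D)).eq_zero) fun a ha => hker a ha
  haveI hprime : (nilradical O).IsPrime := hnil ▸ RingHom.ker_isPrime _
  haveI hdom : IsDomain (CAlg2.red O) := (Ideal.Quotient.isDomain_iff_prime _).2 hprime
  let ψ : CAlg2.red O →+* D := Ideal.Quotient.lift _ (algebraMap O D) fun a ha =>
    ((mem_nilradical.mp ha).map (algebraMap O D)).eq_zero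
  have hψ : Function.Injective ψ := (injective_iff_map_eq_zero ψ).mpr fun x hx => by
    obtain ⟨a, rfl⟩ := Ideal.Quotient.mk_surjective x
    exact Ideal.Quotient.eq_zero_iff_mem.mpr (hker a hx)
  let F := FractionRing D
  let K := FractionRing (CAlg2.red O)
  let ι : K →+* F := IsFractionRing.lift (g := (algebraMap D F).comp ψ) ((IsFractionRing.injective D F).comp hψ)
  have hι : ∀ a, ι (algebraMap _ K a) = algebraMap D F (ψ a) := fun a => IsFractionRing.lift_algebraMap _ a
  have hex : ∀ x : CAlg2.normRed O, ∃ d : D, algebraMap D F d = ι x.1 := fun x => by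
    obtain ⟨P, hP, he⟩ := (x.2 : IsIntegral (CAlg2.red O) (x.1 : K))
    refine IsIntegrallyClosed.isIntegral_iff.mp ⟨P.map ψ, hP.map _, ?_⟩
    rw [Polynomial.eval₂_map, show (algebraMap D F).comp ψ = ι.comp (algebraMap _ K) from
      RingHom.ext fun a => (hι a).symm, ← Polynomial.hom_eval₂, he, map_zero]
  choose j hj using hex
  have hF := IsFractionRing.injective D F
  let jh : CAlg2.normRed O →+* D :=
    { toFun := j
      map_one' := hF (by rw [hj, map_one]; exact map_one ι)
      map_mul' := fun a b => hF (by rw [hj, map_mul, hj, hj]; exact map_mul ι a.1 b.1)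
      map_zero' := hF (by rw [hj, map_zero]; exact map_zero ι)
      map_add' := fun a b => hF (by rw [hj, map_add, hj, hj]; exact map_add ι a.1 b.1) }
  have hjinj : Function.Injective jh := fun a b hab => Subtype.ext (ι.injective (by
    rw [← hj, ← hj, show j a = j b from hab]))
  let f : O →+* CAlg2.normRed O :=
    (algebraMap (CAlg2.red O) (CAlg2.normRed O)).comp (Ideal.Quotient.mk (nilradical O))
  have hjf : ∀ a, jh (f a) = algebraMap O D a := fun a => hF ((hj (f a)).trans (hι _))
  letI : Algebra (CAlg2.normRed O) D := jh.toAlgebra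
  haveI : Algebra.IsIntegral (CAlg2.normRed O) D := ⟨fun d => by
    obtain ⟨P, hP, he⟩ := hint.isIntegral d
    refine ⟨P.map f, hP.map _, ?_⟩
    rw [Polynomial.eval₂_map, show (algebraMap (CAlg2.normRed O) D).comp f = algebraMap O D from
      RingHom.ext hjf, he]⟩
  haveI : FaithfulSMul (CAlg2.normRed O) D := (faithfulSMul_iff_algebraMap_injective _ _).2 hjinj
  haveI : IsLocalRing (CAlg2.normRed O) := RingHom.domain_isLocalRing (algebraMap (CAlg2.normRed O) D)
  refine ⟨⟨hdom, inferInstance⟩, fun m' _ x => ?_⟩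
  obtain rfl := IsLocalRing.eq_maximalIdeal (‹m'.IsMaximal›)
  obtain ⟨x, rfl⟩ := Ideal.Quotient.mk_surjective x
  obtain ⟨k, a, hk⟩ := hins (jh x)
  let χ : ResidueField (CAlg2.normRed O) →+* ResidueField D :=
    IsLocalRing.ResidueField.map (algebraMap (CAlg2.normRed O) D)
  haveI : ExpChar (ResidueField D) (ringExpChar (ResidueField D)) := ringExpChar.expChar _
  haveI : ExpChar (ResidueField (CAlg2.normRed O)) (ringExpChar (ResidueField D)) :=
    (RingHom.expChar_iff χ χ.injective _).mpr inferInstance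
  refine ⟨k, a, χ.injective ?_⟩
  have h1 : residue D (jh x) ^ ringExpChar (ResidueField D) ^ k = residue D (algebraMap O D a) := by
    rw [← map_pow]
    exact Ideal.Quotient.eq.mpr hk
  show χ (residue _ (f a)) = χ (residue _ x ^ ringExpChar (ResidueField (CAlg2.normRed O)) ^ k)
  rw [ringExpChar.eq (ResidueField (CAlg2.normRed O)) (ringExpChar (ResidueField D)), map_pow,
    IsLocalRing.ResidueField.map_residue, IsLocalRing.ResidueField.map_residue]
  rw [show algebraMap (CAlg2.normRed O) D = jh from rfl, hjf, h1]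

section Descent

variable {R T : Type u} [CommRing R] [CommRing T] [Algebra R T]

/-- Over a prime with a single radicial prime above, elements outside it divide elements of the base. -/
theorem exists_mul_eq_algebraMap (q : Ideal R) [q.IsPrime] [Algebra.IsIntegral R T] (Q : Ideal T)
    (huniq : ∀ Q' : Ideal T, Q'.IsPrime → Q'.comap (algebraMap R T) = q → Q' = Q) (s : T) (hs : s ∉ Q) :
    ∃ c ∉ q, ∃ t, s * t = algebraMap R T c := by
  by_contra hne
  push Not at hne
  let M := q.primeCompl.map (algebraMap R T)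
  obtain ⟨P₁, hP₁, hle, hdisj⟩ := Ideal.exists_le_prime_disjoint (Ideal.span {s}) M (by
    rw [Set.disjoint_left]
    rintro _ ha ⟨c, hc, rfl⟩
    obtain ⟨t', ht'⟩ := Ideal.mem_span_singleton.1 ha
    exact hne c hc t' ht'.symm)
  haveI := hP₁
  have hsub : P₁.comap (algebraMap R T) ≤ q := fun x hx => by
    by_contra h
    exact Set.disjoint_left.1 hdisj hx ⟨x, h, rfl⟩
  obtain ⟨Q', hQ', hQ'p, hQ'q⟩ := Ideal.exists_ideal_over_prime_of_isIntegral q P₁ hsub
  exact hs (huniq Q' hQ'p hQ'q ▸ hQ' (hle (Ideal.subset_span rfl)))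

theorem eq_of_radicial (q : Ideal R) (c : ℕ) (hc : 0 < c)
    (hrad : ∀ t : T, ∃ (n : ℕ) (r : R), ∀ (Q : Ideal T), Q.IsPrime → Q.comap (algebraMap R T) = q →
      t ^ c ^ n - algebraMap R T r ∈ Q)
    (Q₁ Q₂ : Ideal T) (h₁ : Q₁.IsPrime) (h₂ : Q₂.IsPrime) (e₁ : Q₁.comap (algebraMap R T) = q)
    (e₂ : Q₂.comap (algebraMap R T) = q) : Q₁ ≤ Q₂ := fun t ht => by
  obtain ⟨n, r, hr⟩ := hrad t
  have hrq : r ∈ q := by
    rw [← e₁, Ideal.mem_comap]
    have := sub_mem (Q₁.pow_mem_of_mem ht _ (pow_pos hc n)) (hr Q₁ h₁ e₁)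
    rwa [sub_sub_cancel] at this
  have := add_mem (hr Q₂ h₂ e₂) (show algebraMap R T r ∈ Q₂ by rw [← e₂] at hrq; exact hrq)
  rw [sub_add_cancel] at this
  exact h₂.mem_of_pow_mem _ this

/-- Descent of the criterion along an integral map which is radicial at a prime. -/
theorem branch_of_radicial [Algebra.IsIntegral R T] (hker : ∀ x : R, algebraMap R T x = 0 → IsNilpotent x)
    (q : Ideal R) [q.IsPrime] (c : ℕ)
    (hchar : ∀ (Q : Ideal T), Q.IsPrime → Q.comap (algebraMap R T) = q → ExpChar (T ⧸ Q) c)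
    (hrad : ∀ t : T, ∃ (n : ℕ) (r : R), ∀ (Q : Ideal T), Q.IsPrime → Q.comap (algebraMap R T) = q →
      t ^ c ^ n - algebraMap R T r ∈ Q)
    (hT : ∀ (Q : Ideal T) [Q.IsPrime], Q.comap (algebraMap R T) = q → Branch (Localization.AtPrime Q)) :
    Branch (Localization.AtPrime q) := by
  obtain ⟨Q, -, hQp, hQ⟩ := Ideal.exists_ideal_over_prime_of_isIntegral q (⊥ : Ideal T) fun x hx =>
    nilradical_le_prime q (mem_nilradical.mpr (hker x hx))
  haveI := hQp
  haveI := hchar Q hQp hQ
  have hc : 0 < c := expChar_pos (T ⧸ Q) c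
  have huniq : ∀ Q' : Ideal T, Q'.IsPrime → Q'.comap (algebraMap R T) = q → Q' = Q := fun Q' hp he =>
    le_antisymm (eq_of_radicial q c hc hrad Q' Q hp hQp he hQ) (eq_of_radicial q c hc hrad Q Q' hQp hp hQ he)
  let Rq := Localization.AtPrime q
  let TQ := Localization.AtPrime Q
  let lr : Rq →+* TQ := Localization.localRingHom q Q (algebraMap R T) hQ.symm
  have hlr : ∀ r, lr (algebraMap R Rq r) = algebraMap T TQ (algebraMap R T r) := fun r =>
    Localization.localRingHom_to_map _ _ _ _ r
  have hlrker : ∀ a, lr a = 0 → IsNilpotent a := by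
    intro a ha
    obtain ⟨r, s, rfl⟩ := IsLocalization.exists_mk'_eq q.primeCompl a
    rw [Localization.localRingHom_mk'] at ha
    obtain ⟨m, hm⟩ := (IsLocalization.mk'_eq_zero_iff _ _).1 ha
    obtain ⟨d, hd, t, ht⟩ := exists_mul_eq_algebraMap q Q huniq m m.2
    have h1 : IsNilpotent (d * r) := hker _ (by rw [map_mul, ← ht]; linear_combination t * hm)
    obtain ⟨k, hk⟩ := h1
    refine ⟨k, ?_⟩
    rw [← IsLocalization.mk'_pow, IsLocalization.mk'_eq_zero_iff]
    exact ⟨⟨d ^ k, q.primeCompl.pow_mem hd k⟩, by rw [← mul_pow]; exact hk⟩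
  have hlrint : lr.IsIntegral := by
    intro z
    obtain ⟨t, s, rfl⟩ := IsLocalization.exists_mk'_eq Q.primeCompl z
    obtain ⟨d, hd, t', ht'⟩ := exists_mul_eq_algebraMap q Q huniq s s.2
    have hnum : lr.IsIntegralElem (algebraMap T TQ (t * t')) := by
      obtain ⟨P, hP, he⟩ := Algebra.IsIntegral.isIntegral (R := R) (t * t')
      refine ⟨P.map (algebraMap R Rq), hP.map _, ?_⟩
      rw [Polynomial.eval₂_map, show lr.comp (algebraMap R Rq) = (algebraMap T TQ).comp (algebraMap R T) from
        RingHom.ext hlr, ← Polynomial.hom_eval₂, he, map_zero]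
    have hden : lr.IsIntegralElem (lr (IsLocalization.mk' Rq 1 (⟨d, hd⟩ : q.primeCompl))) :=
      lr.isIntegralElem_map
    suffices e : IsLocalization.mk' TQ t s =
        algebraMap T TQ (t * t') * lr (IsLocalization.mk' Rq 1 (⟨d, hd⟩ : q.primeCompl)) by
      rw [e]; exact hnum.mul lr hden
    rw [Localization.localRingHom_mk', ← IsLocalization.mk'_one (M := Q.primeCompl) TQ (t * t'),
      ← IsLocalization.mk'_mul, IsLocalization.mk'_eq_iff_eq]
    simp only [Submonoid.coe_mul, OneMemClass.coe_one, one_mul, map_one, mul_one]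
    rw [show algebraMap R T d = s * t' from ht'.symm]
    ring_nf
  obtain ⟨D, _, _, _, _, hD, hkerD, hintD, hins⟩ := hT Q hQ
  let ψ := algebraMap TQ D
  letI : Algebra Rq D := (ψ.comp lr).toAlgebra
  refine ⟨D, inferInstance, inferInstance, inferInstance, inferInstance, hD, fun a ha => ?_,
    ⟨hlrint.trans _ _ hintD.isIntegral⟩, fun d => ?_⟩
  · obtain ⟨k, hk⟩ := hkerD (lr a) ha
    obtain ⟨l, hl⟩ := hlrker (a ^ k) (by rw [map_pow, hk])
    exact ⟨k * l, by rw [pow_mul, hl]⟩
  · let χ : T →+* ResidueField D := (residue D).comp (ψ.comp (algebraMap T TQ))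
    have hχker : RingHom.ker χ = Q := by
      have h1 : (maximalIdeal D).comap ψ = maximalIdeal TQ := by
        haveI := hintD
        exact IsLocalRing.eq_maximalIdeal (Ideal.isMaximal_comap_of_isIntegral_of_isMaximal (maximalIdeal D))
      have h2 : (maximalIdeal TQ).comap (algebraMap T TQ) = Q := IsLocalization.AtPrime.comap_maximalIdeal TQ Q
      rw [← h2, ← h1, Ideal.comap_comap]
      ext x
      rw [RingHom.mem_ker, Ideal.mem_comap]
      exact Ideal.Quotient.eq_zero_iff_mem
    let χ' : T ⧸ Q →+* ResidueField D := Ideal.Quotient.lift Q χ fun x hx => by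
      rw [← hχker] at hx; exact hx
    have hχ' : Function.Injective χ' := (injective_iff_map_eq_zero χ').mpr fun x hx => by
      obtain ⟨x, rfl⟩ := Ideal.Quotient.mk_surjective x
      exact Ideal.Quotient.eq_zero_iff_mem.mpr (hχker ▸ (hx : χ x = 0))
    haveI : ExpChar (ResidueField D) c := (RingHom.expChar_iff χ' hχ' c).mp inferInstance
    rw [ringExpChar.eq (ResidueField D) c]
    obtain ⟨n, z, hz⟩ := hins d
    rw [ringExpChar.eq (ResidueField D) c] at hz
    obtain ⟨t, s, rfl⟩ := IsLocalization.exists_mk'_eq Q.primeCompl z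
    obtain ⟨m, r, hr⟩ := hrad t
    obtain ⟨j, u, hu⟩ := hrad s
    have hr' : χ t ^ c ^ m = χ (algebraMap R T r) := by
      rw [← map_pow, ← sub_eq_zero, ← map_sub, ← RingHom.mem_ker, hχker]; exact hr Q hQp hQ
    have hu' : χ s ^ c ^ j = χ (algebraMap R T u) := by
      rw [← map_pow, ← sub_eq_zero, ← map_sub, ← RingHom.mem_ker, hχker]; exact hu Q hQp hQ
    have huq : u ∉ q := fun h => by
      have h0 : χ (algebraMap R T u) = 0 := by
        rw [← RingHom.mem_ker, hχker, ← Ideal.mem_comap, hQ]; exact h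
      rw [h0, pow_eq_zero_iff (pow_pos hc j).ne', ← RingHom.mem_ker, hχker] at hu'
      exact s.2 hu'
    refine ⟨n + (m + j), IsLocalization.mk' Rq (r ^ c ^ j)
      (⟨u ^ c ^ m, q.primeCompl.pow_mem huq _⟩ : q.primeCompl), ?_⟩
    rw [← Ideal.Quotient.eq_zero_iff_mem, map_sub, sub_eq_zero]
    show residue D (d ^ c ^ (n + (m + j))) = residue D (ψ (lr _))
    have hz' : residue D d ^ c ^ n = residue D (ψ (IsLocalization.mk' TQ t s)) := by
      rw [← map_pow]; exact Ideal.Quotient.eq.mpr hz
    have hts : residue D (ψ (IsLocalization.mk' TQ t s)) * χ s = χ t := by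
      show _ * residue D (ψ (algebraMap T TQ s)) = _
      rw [← map_mul, ← map_mul, IsLocalization.mk'_spec]; rfl
    have hlru : residue D (ψ (lr (IsLocalization.mk' Rq (r ^ c ^ j)
        (⟨u ^ c ^ m, q.primeCompl.pow_mem huq _⟩ : q.primeCompl)))) * χ (algebraMap R T (u ^ c ^ m)) =
        χ (algebraMap R T (r ^ c ^ j)) := by
      show _ * residue D (ψ (algebraMap T TQ (algebraMap R T (u ^ c ^ m)))) =
        residue D (ψ (algebraMap T TQ (algebraMap R T (r ^ c ^ j))))
      rw [← hlr, ← hlr, ← map_mul, ← map_mul, ← map_mul,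
        IsLocalization.mk'_spec Rq (r ^ c ^ j) (⟨u ^ c ^ m, q.primeCompl.pow_mem huq _⟩ : q.primeCompl)]
    have hu0 : χ (algebraMap R T (u ^ c ^ m)) ≠ 0 := fun h => by
      rw [← RingHom.mem_ker, hχker, ← Ideal.mem_comap, hQ] at h
      exact huq (‹q.IsPrime›.mem_of_pow_mem _ h)
    refine mul_right_cancel₀ hu0 ?_
    rw [hlru, map_pow (residue D), map_pow (algebraMap R T), map_pow (algebraMap R T), map_pow χ, map_pow χ,
      ← hr', ← hu', pow_add, pow_add, pow_mul, ← pow_mul (χ s), ← pow_mul (χ t), mul_comm (c ^ j) (c ^ m),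
      ← mul_pow, hz', hts]

end Descent

/-- Base change along a flat map. -/
theorem branch_baseChange {B : Type u} [CommRing B] [IsLocalRing B] (D : Type u) [CommRing D] [IsLocalRing D]
    [Algebra B D] (hker : ∀ a : B, algebraMap B D a = 0 → IsNilpotent a) [Algebra.IsIntegral B D]
    (hins : ∀ d : D, ∃ (n : ℕ) (a : B), d ^ (ringExpChar (ResidueField D)) ^ n - algebraMap B D a ∈ maximalIdeal D)
    (R : Type u) [CommRing R] [Algebra B R] [Module.Flat B R] (q : Ideal R) [q.IsPrime]
    (hq : q.comap (algebraMap B R) = maximalIdeal B)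
    (hT : ∀ (Q : Ideal (R ⊗[B] D)) [Q.IsPrime], Q.comap (algebraMap R (R ⊗[B] D)) = q →
      Branch (Localization.AtPrime Q)) :
    Branch (Localization.AtPrime q) := by
  let c := ringExpChar (ResidueField D)
  haveI : ExpChar (ResidueField D) c := ringExpChar.expChar _
  have hover : ∀ Q : Ideal (R ⊗[B] D), Q.IsPrime → Q.comap (algebraMap R (R ⊗[B] D)) = q →
      maximalIdeal D ≤ Q.comap (Algebra.TensorProduct.includeRight (R := B) (A := R) (B := D)).toRingHom := by
    intro Q hQp hQ
    haveI := hQp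
    let P := Q.comap (Algebra.TensorProduct.includeRight (R := B) (A := R) (B := D)).toRingHom
    haveI : P.IsPrime := Ideal.comap_isPrime _ _
    have hP : P.comap (algebraMap B D) = maximalIdeal B := by
      rw [← hq, ← hQ, Ideal.comap_comap, Ideal.comap_comap]
      exact congrArg (fun g => Q.comap g)
        (Algebra.TensorProduct.includeLeftRingHom_comp_algebraMap (R := B) (A := R) (B := D)).symm
    exact (IsLocalRing.eq_maximalIdeal (Ideal.isMaximal_of_isIntegral_of_isMaximal_comap P
      (hP ▸ maximalIdeal.isMaximal B))).ge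
  have hχ : ∀ Q : Ideal (R ⊗[B] D), Q.IsPrime → Q.comap (algebraMap R (R ⊗[B] D)) = q →
      ExpChar ((R ⊗[B] D) ⧸ Q) c := by
    intro Q hQp hQ
    haveI := hQp
    let χ : ResidueField D →+* (R ⊗[B] D) ⧸ Q := Ideal.quotientMap Q _ (hover Q hQp hQ)
    exact (RingHom.expChar_iff χ χ.injective c).mp inferInstance
  refine branch_of_radicial (R := R) (T := R ⊗[B] D) (fun x hx => ?_) q c hχ (fun t => ?_) hT
  · let g := Algebra.linearMap B D
    have h0 : g.lTensor R (x ⊗ₜ[B] (1 : B)) = 0 := by
      show x ⊗ₜ[B] algebraMap B D 1 = 0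
      rw [map_one]; exact hx
    obtain ⟨z, hz⟩ := (Module.Flat.lTensor_exact R (LinearMap.exact_subtype_ker_map g) _).mp h0
    have hz' : x = TensorProduct.rid B R ((LinearMap.ker g).subtype.lTensor R z) := by
      rw [hz, TensorProduct.rid_tmul, one_smul]
    rw [hz']
    clear hz hz' h0 hx
    induction z using TensorProduct.induction_on with
    | zero => simp
    | tmul r a =>
      rw [LinearMap.lTensor_tmul, TensorProduct.rid_tmul, Algebra.smul_def]
      exact (Commute.all _ _).isNilpotent_mul_right ((hker _ a.2).map (algebraMap B R))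
    | add u v hu hv =>
      rw [map_add, map_add]
      exact (Commute.all _ _).isNilpotent_add hu hv
  · induction t using TensorProduct.induction_on with
    | zero => exact ⟨0, 0, fun Q _ _ => by simp⟩
    | tmul r d =>
      obtain ⟨n, b, hb⟩ := hins d
      refine ⟨n, r ^ c ^ n * algebraMap B R b, fun Q hQp hQ => ?_⟩
      have h1 : (r ⊗ₜ[B] d) ^ c ^ n - algebraMap R (R ⊗[B] D) (r ^ c ^ n * algebraMap B R b) =
          (r ^ c ^ n) ⊗ₜ[B] (1 : D) * ((1 : R) ⊗ₜ[B] (d ^ c ^ n - algebraMap B D b)) := by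
        rw [Algebra.TensorProduct.tmul_pow, Algebra.TensorProduct.algebraMap_apply, Algebra.algebraMap_self,
          RingHom.id_apply, Algebra.TensorProduct.tmul_mul_tmul, mul_one, one_mul, tmul_sub,
          Algebra.algebraMap_eq_smul_one b, Algebra.algebraMap_eq_smul_one (A := D) b, mul_smul_comm, mul_one,
          smul_tmul]
      rw [h1]
      exact Q.mul_mem_left _ (hover Q hQp hQ hb)
    | add u v hu hv =>
      obtain ⟨m, a, ha⟩ := hu
      obtain ⟨n, b, hb⟩ := hv
      refine ⟨m + n, a ^ c ^ n + b ^ c ^ m, fun Q hQp hQ => ?_⟩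
      haveI := hQp
      haveI := hχ Q hQp hQ
      have ha' := Ideal.Quotient.eq.mpr (ha Q hQp hQ)
      have hb' := Ideal.Quotient.eq.mpr (hb Q hQp hQ)
      rw [map_pow] at ha' hb'
      rw [← Ideal.Quotient.eq, map_pow, map_add, map_add, map_add, map_pow, map_pow, map_pow, map_pow, ← ha', ← hb',
        add_pow_expChar_pow, ← pow_mul, ← pow_mul, ← pow_add, ← pow_add, add_comm n m]

end Groth.Agent.IntBC
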