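import Groth.Agent.IntBC.Main
import Groth.Agent.IntBC.Branch
import Mathlib.FieldTheory.PurelyInseparable.PerfectClosure

/-!
# Geometric unibranchness after extension of the base field
-/

namespace Groth.Agent.IntBC

universe u

open TensorProduct Polynomial

theorem branch_of_normalRing {T : Type u} [CommRing T] (h : EGA4.IsNormalRing T) (Q : Ideal T) [Q.IsPrime] :
    Branch (Localization.AtPrime Q) :=
  haveI := (h Q).1
  haveI := (h Q).2
  branch_of_normal _

variable {k : Type u} [Field k]

/-- The kernel of a base change over a field of a map with nilpotent kernel is nilpotent. -/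
theorem isNilpotent_of_map_eq_zero {P K X Y : Type u} [Field P] [CommRing K] [Algebra P K] [CommRing X]
    [Algebra P X] [CommRing Y] [Algebra P Y] (g : X →ₐ[P] Y) (hg : ∀ x, g x = 0 → IsNilpotent x)
    (z : K ⊗[P] X) (hz : Algebra.TensorProduct.map (AlgHom.id P K) g z = 0) : IsNilpotent z := by
  obtain ⟨w, rfl⟩ := (Module.Flat.lTensor_exact K (LinearMap.exact_subtype_ker_map g.toLinearMap) z).mp hz
  clear hz
  induction w using TensorProduct.induction_on with
  | zero => simp
  | tmul a x =>
    rw [LinearMap.lTensor_tmul, Submodule.subtype_apply, show a ⊗ₜ[P] (x : X) = a ⊗ₜ[P] (1 : X) * ((1 : K) ⊗ₜ[P] (x : X)) by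
      rw [Algebra.TensorProduct.tmul_mul_tmul, mul_one, one_mul]]
    exact (Commute.all _ _).isNilpotent_mul_left
      ((hg _ (LinearMap.mem_ker.mp x.2)).map (Algebra.TensorProduct.includeRight (R := P) (A := K) (B := X)))
  | add u v hu hv =>
    rw [map_add]
    exact (Commute.all _ _).isNilpotent_add hu hv

/-- The radicial model, abstractly. -/
theorem branch_radical_model (A k' P K' A₁ : Type u) [CommRing A] [Algebra k A]
    [Field k'] [Algebra k k'] [Field P] [Algebra k P] [IsPurelyInseparable k P] [PerfectField P]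
    [Field K'] [Algebra k' K'] [Algebra k K'] [IsScalarTower k k' K'] [IsPurelyInseparable k' K']
    [Algebra P K'] [IsScalarTower k P K'] [CommRing A₁] [IsDomain A₁] [IsIntegrallyClosed A₁] [Algebra A A₁]
    [Algebra k A₁] [IsScalarTower k A A₁] [Algebra P A₁] [IsScalarTower k P A₁]
    (hinj : Function.Injective (algebraMap A A₁))
    (hA₁ : ∀ x : A₁, ∃ (n : ℕ) (a : A), x ^ (ringExpChar k) ^ n = algebraMap A A₁ a)
    (q : Ideal (k' ⊗[k] A)) [q.IsPrime] : Branch (Localization.AtPrime q) := by
  haveI : Nontrivial A := (algebraMap A A₁).domain_nontrivial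
  let c := ringExpChar k
  haveI hck : ExpChar k c := ringExpChar.expChar k
  haveI : ExpChar k' c := expChar_of_injective_algebraMap (algebraMap k k').injective c
  have hc : 0 < c := expChar_pos k c
  haveI : Algebra.IsGeometricallyReduced P K' := GrpSchLib.isGeometricallyReduced_of_isReduced P K'
  have hn1 : EGA4.IsNormalRing A₁ := fun p _ =>
    ⟨IsLocalization.isDomain_localization (Ideal.primeCompl_le_nonZeroDivisors p),
      isIntegrallyClosed_of_isLocalization _ p.primeCompl (Ideal.primeCompl_le_nonZeroDivisors p)⟩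
  have hnT : EGA4.IsNormalRing (K' ⊗[P] A₁) :=
    normal_of_isGeomNormal (k := P) K' A₁ (isGeomNormal_of_field K') hn1
  let T := K' ⊗[P] A₁
  haveI : IsScalarTower k P (K' ⊗[P] A₁) := IsScalarTower.of_algebraMap_eq fun x => by
    simp [Algebra.TensorProduct.algebraMap_apply, IsScalarTower.algebraMap_apply k P K']
  let φ : k' ⊗[k] A →ₐ[k] T :=
    Algebra.TensorProduct.lift
      ((Algebra.TensorProduct.includeLeft (R := P) (S := k) (A := K') (B := A₁)).comp (IsScalarTower.toAlgHom k k' K'))
      (((Algebra.TensorProduct.includeRight (R := P) (A := K') (B := A₁)).restrictScalars k).comp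
        (IsScalarTower.toAlgHom k A A₁)) fun _ _ => Commute.all _ _
  have hφ : ∀ x a, φ (x ⊗ₜ[k] a) = algebraMap k' K' x ⊗ₜ[P] algebraMap A A₁ a := fun x a => by
    show algebraMap k' K' x ⊗ₜ[P] (1 : A₁) * ((1 : K') ⊗ₜ[P] algebraMap A A₁ a) = _
    rw [Algebra.TensorProduct.tmul_mul_tmul, mul_one, one_mul]
  have hrad : ∀ t : T, ∃ (n : ℕ) (r : k' ⊗[k] A), t ^ c ^ n = φ r := by
    intro t
    induction t using TensorProduct.induction_on with
    | zero => exact ⟨0, 0, by simp⟩
    | tmul y x =>
      obtain ⟨n, b, hb⟩ := IsPurelyInseparable.pow_mem k' c y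
      obtain ⟨m, a, ha⟩ := hA₁ x
      refine ⟨n + m, (b ^ c ^ m) ⊗ₜ[k] (a ^ c ^ n), ?_⟩
      rw [hφ, map_pow, map_pow, hb, ← ha, Algebra.TensorProduct.tmul_pow, ← pow_mul, ← pow_mul, ← pow_add, ← pow_add,
        add_comm m n]
    | add u v hu hv =>
      obtain ⟨m, a, ha⟩ := hu
      obtain ⟨n, b, hb⟩ := hv
      refine ⟨m + n, a ^ c ^ n + b ^ c ^ m, ?_⟩
      haveI : Nontrivial T :=
        (Algebra.TensorProduct.includeRight_injective (A := K') (B := A₁) (algebraMap P K').injective).nontrivial
      haveI : ExpChar T c := expChar_of_injective_algebraMap (algebraMap k T).injective c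
      rw [map_add, map_pow, map_pow, ← ha, ← hb, add_pow_expChar_pow, ← pow_mul, ← pow_mul, ← pow_add, ← pow_add,
        add_comm n m]
  letI : Algebra (k' ⊗[k] A) T := φ.toRingHom.toAlgebra
  haveI : Algebra.IsIntegral (k' ⊗[k] A) T := ⟨fun t => by
    obtain ⟨n, r, hr⟩ := hrad t
    refine IsIntegral.of_pow (pow_pos hc n) ?_
    rw [hr]
    exact isIntegral_algebraMap (x := r)⟩
  refine branch_of_radicial (R := k' ⊗[k] A) (T := T) (fun z hz => ?_) q c (fun Q hQ _ => ?_) (fun t => ?_)
    fun Q _ _ => branch_of_normalRing hnT Q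
  · let g : P ⊗[k] A →ₐ[P] A₁ := Algebra.TensorProduct.lift (Algebra.ofId P A₁) (IsScalarTower.toAlgHom k A A₁)
      fun _ _ => Commute.all _ _
    haveI : Nontrivial (P ⊗[k] A) :=
      (Algebra.TensorProduct.includeRight_injective (A := P) (B := A) (algebraMap k P).injective).nontrivial
    haveI : ExpChar (P ⊗[k] A) c := expChar_of_injective_algebraMap (algebraMap k (P ⊗[k] A)).injective c
    have hpow : ∀ w : P ⊗[k] A, ∃ (n : ℕ) (a : A), w ^ c ^ n = (1 : P) ⊗ₜ[k] a := by
      intro w
      induction w using TensorProduct.induction_on with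
      | zero => exact ⟨0, 0, by simp⟩
      | tmul p a =>
        obtain ⟨n, b, hb⟩ := IsPurelyInseparable.pow_mem k c p
        refine ⟨n, b • a ^ c ^ n, ?_⟩
        rw [Algebra.TensorProduct.tmul_pow, ← hb, ← TensorProduct.smul_tmul, Algebra.smul_def, mul_one]
      | add u v hu hv =>
        obtain ⟨m, a, ha⟩ := hu
        obtain ⟨n, b, hb⟩ := hv
        refine ⟨m + n, a ^ c ^ n + b ^ c ^ m, ?_⟩
        rw [add_pow_expChar_pow, tmul_add, pow_add, pow_mul, ha, mul_comm (c ^ m), pow_mul, hb,
          Algebra.TensorProduct.tmul_pow, Algebra.TensorProduct.tmul_pow, one_pow, one_pow]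
    have hg : ∀ w, g w = 0 → IsNilpotent w := by
      intro w hw
      obtain ⟨n, a, ha⟩ := hpow w
      have h1 := congrArg g ha
      rw [map_pow, hw, zero_pow (pow_pos hc n).ne', Algebra.TensorProduct.lift_tmul, map_one, one_mul] at h1
      refine ⟨c ^ n, ?_⟩
      rw [ha, show a = 0 from hinj (h1.symm.trans (map_zero _).symm), tmul_zero]
    let i := Algebra.TensorProduct.map (IsScalarTower.toAlgHom k k' K') (AlgHom.id k A)
    let e := Algebra.TensorProduct.cancelBaseChange k P P K' A
    have hfac : ∀ z, φ z = Algebra.TensorProduct.map (AlgHom.id P K') g (e.symm (i z)) := by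
      intro z
      induction z using TensorProduct.induction_on with
      | zero => simp only [map_zero]
      | tmul x a => rw [hφ]; simp [i, e, g]
      | add u v hu hv => simp only [map_add, hu, hv]
    have hi : Function.Injective i :=
      Module.Flat.rTensor_preserves_injective_linearMap (M := A) (IsScalarTower.toAlgHom k k' K').toLinearMap
        (algebraMap k' K').injective
    obtain ⟨m, hm⟩ := isNilpotent_of_map_eq_zero g hg (e.symm (i z)) ((hfac z).symm.trans hz)
    exact ⟨m, hi (e.symm.injective (by rw [map_pow, map_pow, map_zero, map_zero]; exact hm))⟩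
  · haveI := hQ
    exact expChar_of_injective_algebraMap (algebraMap k (T ⧸ Q)).injective c
  · obtain ⟨n, r, hr⟩ := hrad t
    exact ⟨n, r, fun Q _ _ => by rw [hr]; simp [show algebraMap (k' ⊗[k] A) T r = φ r from rfl]⟩

/-- The radicial model. -/
theorem branch_field_core (A k' P K' E : Type u) [CommRing A] [IsDomain A] [IsIntegrallyClosed A] [Algebra k A]
    [Field k'] [Algebra k k'] [Field P] [Algebra k P] [IsPurelyInseparable k P] [PerfectField P]
    [Field K'] [Algebra k' K'] [Algebra k K'] [IsScalarTower k k' K'] [IsPurelyInseparable k' K']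
    [Algebra P K'] [IsScalarTower k P K'] [Field E] [Algebra A E] [Algebra k E] [IsScalarTower k A E]
    [Algebra P E] [IsScalarTower k P E] (hinj : Function.Injective (algebraMap A E))
    (hE : ∀ x : E, ∃ (n : ℕ) (a s : A), s ≠ 0 ∧ algebraMap A E s * x ^ (ringExpChar k) ^ n = algebraMap A E a)
    (q : Ideal (k' ⊗[k] A)) [q.IsPrime] : Branch (Localization.AtPrime q) := by
  let c := ringExpChar k
  haveI hck : ExpChar k c := ringExpChar.expChar k
  haveI : ExpChar P c := expChar_of_injective_algebraMap (algebraMap k P).injective c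
  haveI : ExpChar k' c := expChar_of_injective_algebraMap (algebraMap k k').injective c
  haveI : ExpChar E c := expChar_of_injective_algebraMap (algebraMap k E).injective c
  have hc : 0 < c := expChar_pos k c
  let A₁ := integralClosure A E
  haveI : IsIntegrallyClosed A₁ := by
    rw [isIntegrallyClosed_iff (FractionRing A₁)]
    intro x hx
    let ι : FractionRing A₁ →ₐ[A₁] E := IsFractionRing.liftAlgHom (g := Algebra.ofId A₁ E) Subtype.val_injective
    have hi : IsIntegral A (ι x) := isIntegral_trans (ι x) (hx.map ι)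
    exact ⟨⟨ι x, hi⟩, ι.toRingHom.injective (ι.commutes ⟨ι x, hi⟩)⟩
  have hPint : ∀ p : P, algebraMap P E p ∈ A₁ := fun p => by
    obtain ⟨n, b, hb⟩ := IsPurelyInseparable.pow_mem k c p
    have h1 : IsIntegral A ((algebraMap P E p) ^ c ^ n) := by
      rw [← map_pow, ← hb, ← IsScalarTower.algebraMap_apply, IsScalarTower.algebraMap_apply k A E]
      exact isIntegral_algebraMap
    exact h1.of_pow (pow_pos hc n)
  letI : Algebra P A₁ := ((algebraMap P E).codRestrict A₁ hPint).toAlgebra
  haveI : IsScalarTower k P A₁ := IsScalarTower.of_algebraMap_eq fun x =>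
    Subtype.ext (IsScalarTower.algebraMap_apply k P E x)
  have hA₁ : ∀ x : A₁, ∃ (n : ℕ) (a : A), x ^ c ^ n = algebraMap A A₁ a := by
    rintro ⟨x, hx⟩
    obtain ⟨n, a, s, hs, he⟩ := hE x
    let L := FractionRing A
    let j : L →ₐ[A] E := IsFractionRing.liftAlgHom (g := Algebra.ofId A E) hinj
    have hl : j (algebraMap A L a / algebraMap A L s) = x ^ c ^ n := by
      rw [map_div₀, AlgHom.commutes, AlgHom.commutes, ← he,
        mul_div_cancel_left₀ _ ((map_ne_zero_iff _ hinj).mpr hs)]
    have hint : IsIntegral A (algebraMap A L a / algebraMap A L s) := by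
      rw [← isIntegral_algHom_iff j j.toRingHom.injective, hl]
      exact (hx : IsIntegral A x).pow _
    obtain ⟨b, hb⟩ := IsIntegrallyClosed.isIntegral_iff.mp hint
    refine ⟨n, b, Subtype.ext ?_⟩
    show x ^ c ^ n = algebraMap A E b
    rw [← hl, ← hb, AlgHom.commutes]
  exact branch_radical_model A k' P K' A₁ (fun a b h => hinj (congrArg Subtype.val h)) hA₁ q

/-- A radicial extension of a field receiving a purely inseparable extension of a subfield. -/
theorem exists_radicalField (L P : Type u) [Field L] [Algebra k L] [Field P] [Algebra k P] [IsPurelyInseparable k P] :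
    ∃ (E : Type u) (_ : Field E) (_ : Algebra L E) (_ : Algebra k E) (_ : Algebra P E),
      IsScalarTower k L E ∧ IsScalarTower k P E ∧
        ∀ x : E, ∃ (n : ℕ) (l : L), x ^ (ringExpChar k) ^ n = algebraMap L E l := by
  let c := ringExpChar k
  haveI : ExpChar k c := ringExpChar.expChar k
  haveI : ExpChar L c := expChar_of_injective_algebraMap (algebraMap k L).injective c
  let Lb := AlgebraicClosure L
  let f : P →ₐ[k] Lb := IsAlgClosed.lift
  have hf : ∀ p, f p ∈ perfectClosure L Lb := fun p => by
    obtain ⟨n, b, hb⟩ := IsPurelyInseparable.pow_mem k c p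
    rw [mem_perfectClosure_iff_pow_mem c]
    exact ⟨n, algebraMap k L b, by rw [← IsScalarTower.algebraMap_apply, ← map_pow, ← hb, f.commutes]⟩
  letI : Algebra P (perfectClosure L Lb) :=
    (f.toRingHom.codRestrict (perfectClosure L Lb).toSubfield.toSubring hf).toAlgebra
  refine ⟨perfectClosure L Lb, inferInstance, inferInstance, inferInstance, inferInstance, inferInstance,
    IsScalarTower.of_algebraMap_eq fun x => Subtype.ext (f.commutes x).symm, fun x => ?_⟩
  obtain ⟨n, l, hl⟩ := IsPurelyInseparable.pow_mem L c x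
  exact ⟨n, l, hl.symm⟩

/-- Every local ring of `k' ⊗ A` for an integrally closed domain `A` satisfies the criterion. -/
theorem branch_field (A k' : Type u) [CommRing A] [IsDomain A] [IsIntegrallyClosed A] [Algebra k A]
    [Field k'] [Algebra k k'] (q : Ideal (k' ⊗[k] A)) [q.IsPrime] : Branch (Localization.AtPrime q) := by
  let L := FractionRing A
  let K' := perfectClosure k' (AlgebraicClosure k')
  let P := perfectClosure k K'
  obtain ⟨E, _, _, _, _, _, _, hE⟩ := exists_radicalField (k := k) L P
  letI : Algebra A E := ((algebraMap L E).comp (algebraMap A L)).toAlgebra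
  haveI : IsScalarTower A L E := IsScalarTower.of_algebraMap_eq' rfl
  haveI : IsScalarTower k A E := IsScalarTower.of_algebraMap_eq fun x => by
    rw [IsScalarTower.algebraMap_apply A L E, ← IsScalarTower.algebraMap_apply k A L,
      ← IsScalarTower.algebraMap_apply]
  refine branch_field_core A k' P K' E ((algebraMap L E).injective.comp (IsFractionRing.injective A L))
    (fun x => ?_) q
  obtain ⟨n, l, hl⟩ := hE x
  obtain ⟨a, s, hs, rfl⟩ := IsFractionRing.div_surjective A l
  refine ⟨n, a, s, nonZeroDivisors.ne_zero hs, ?_⟩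
  rw [hl, IsScalarTower.algebraMap_apply A L E, IsScalarTower.algebraMap_apply A L E, ← map_mul,
    mul_div_cancel₀ _ ((map_ne_zero_iff _ (IsFractionRing.injective A L)).mpr (nonZeroDivisors.ne_zero hs))]

end Groth.Agent.IntBC
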