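import Groth.Agent.IntBC.Closure

/-!
# Relative integral closures after a flat base change
-/

namespace Groth.Agent.IntBC

universe u

open TensorProduct Polynomial

variable {A : Type u} [CommRing A] [IsNoetherianRing A] {E : Type u} [CommRing E] [Algebra A E] [Module.Flat A E]

/-- The map of integral closures along a tower. -/
noncomputable def intClosureMap {A : Type u} [CommRing A] (B₀ B C : Type u) [CommRing B₀] [CommRing B] [CommRing C]
    [Algebra A B₀] [Algebra A B] [Algebra A C] [Algebra B₀ B] [Algebra B₀ C] [Algebra B C] [IsScalarTower B₀ B C]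
    [IsScalarTower A B₀ C] [IsScalarTower A B C] :
    integralClosure B₀ C →ₐ[A] integralClosure B C :=
  (((integralClosure B₀ C).val.restrictScalars A).codRestrict ((integralClosure B C).restrictScalars A)
    fun c => (c.2 : IsIntegral B₀ (c : C)).tower_top)

/-- Integrality over a Noetherian model of the base. -/
theorem mem_range_of_base (hE : ∀ (L : Type u) [Field L] [Algebra A L], IsReduced (L ⊗[A] E))
    (B₀ C : Type u) [CommRing B₀] [IsNoetherianRing B₀] [CommRing C] [Algebra A B₀] [Algebra A C] [Algebra B₀ C]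
    [IsScalarTower A B₀ C] (q₀ : (E ⊗[A] B₀)[X]) (hq₀m : q₀.Monic) (y : E ⊗[A] C)
    (hy : q₀.eval₂ (Algebra.TensorProduct.map (AlgHom.id E E) (IsScalarTower.toAlgHom A B₀ C)).toRingHom y = 0) :
    y ∈ (Algebra.TensorProduct.map (AlgHom.id E E) ((integralClosure B₀ C).val.restrictScalars A)).range := by
  let E' := B₀ ⊗[A] E
  have hE' : ∀ (L : Type u) [Field L] [Algebra B₀ L], IsReduced (L ⊗[B₀] E') := by
    intro L _ _
    letI : Algebra A L := ((algebraMap B₀ L).comp (algebraMap A B₀)).toAlgebra
    haveI : IsScalarTower A B₀ L := IsScalarTower.of_algebraMap_eq' rfl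
    haveI := hE L
    exact isReduced_of_injective (Algebra.TensorProduct.cancelBaseChange A B₀ L L E)
      (Algebra.TensorProduct.cancelBaseChange A B₀ L L E).injective
  let Θ : E' ⊗[B₀] C ≃+* E ⊗[A] C :=
    ((Algebra.TensorProduct.comm B₀ E' C).toRingEquiv.trans
      (Algebra.TensorProduct.cancelBaseChange A B₀ C C E).toRingEquiv).trans
      (Algebra.TensorProduct.comm A C E).toRingEquiv
  have hΘ : ∀ (b : B₀) (e : E) (c : C), Θ ((b ⊗ₜ[A] e) ⊗ₜ[B₀] c) = e ⊗ₜ[A] (b • c) := fun b e c => by
    show Algebra.TensorProduct.comm A C E ((Algebra.TensorProduct.cancelBaseChange A B₀ C C E) (c ⊗ₜ[B₀] (b ⊗ₜ[A] e))) = _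
    rw [Algebra.TensorProduct.cancelBaseChange_tmul, Algebra.TensorProduct.comm_tmul]
  let ΘR : E' ⊗[B₀] C →+* E ⊗[A] C := (Θ : E' ⊗[B₀] C →+* E ⊗[A] C)
  let σ : E ⊗[A] B₀ →+* E' := (Algebra.TensorProduct.comm A E B₀).toRingHom
  have hc : (ΘR.comp (algebraMap E' (E' ⊗[B₀] C))).comp σ =
      (Algebra.TensorProduct.map (AlgHom.id E E) (IsScalarTower.toAlgHom A B₀ C)).toRingHom := by
    refine RingHom.ext fun z => ?_
    show Θ ((Algebra.TensorProduct.comm A E B₀ z) ⊗ₜ[B₀] (1 : C)) =
      Algebra.TensorProduct.map (AlgHom.id E E) (IsScalarTower.toAlgHom A B₀ C) z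
    induction z using TensorProduct.induction_on with
    | zero => rw [map_zero, zero_tmul, map_zero, map_zero]
    | tmul e b => rw [Algebra.TensorProduct.comm_tmul, hΘ]; simp [Algebra.smul_def]
    | add u v hu hv => rw [map_add, add_tmul, map_add, map_add, hu, hv]
  have hint : IsIntegral E' (Θ.symm y) := by
    refine ⟨q₀.map σ, hq₀m.map _, Θ.injective ?_⟩
    rw [Polynomial.eval₂_map, map_zero]
    show ΘR (Polynomial.eval₂ _ (Θ.symm y) q₀) = 0
    rw [Polynomial.hom_eval₂, ← RingHom.comp_assoc, hc, show ΘR (Θ.symm y) = y from Θ.apply_symm_apply y]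
    exact hy
  have hmem : Θ.symm y ∈ integralClosure E' (E' ⊗[B₀] C) := hint
  rw [integralClosure_baseChange hE' C] at hmem
  have key : ∀ z ∈ Algebra.adjoin E'
      ((Algebra.TensorProduct.includeRight : C →ₐ[B₀] E' ⊗[B₀] C) '' (integralClosure B₀ C)),
      Θ z ∈ (Algebra.TensorProduct.map (AlgHom.id E E) ((integralClosure B₀ C).val.restrictScalars A)).range := by
    intro z hz
    induction hz using Algebra.adjoin_induction with
    | mem x hx =>
      obtain ⟨c, hc', rfl⟩ := hx
      refine ⟨1 ⊗ₜ[A] (⟨c, hc'⟩ : integralClosure B₀ C), ?_⟩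
      show _ = Θ (((1 : B₀) ⊗ₜ[A] (1 : E)) ⊗ₜ[B₀] c)
      rw [hΘ]
      simp
    | algebraMap x =>
      show Θ (x ⊗ₜ[B₀] (1 : C)) ∈ _
      induction x using TensorProduct.induction_on with
      | zero => rw [zero_tmul, map_zero]; exact zero_mem _
      | tmul b e =>
        refine ⟨e ⊗ₜ[A] (algebraMap B₀ (integralClosure B₀ C) b), ?_⟩
        rw [hΘ]
        simp [Algebra.smul_def]
      | add u v hu hv => rw [add_tmul, map_add]; exact add_mem hu hv
    | add u v _ _ hu hv => rw [map_add]; exact add_mem hu hv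
    | mul u v _ _ hu hv => rw [map_mul]; exact mul_mem hu hv
  have := key _ hmem
  rwa [Θ.apply_symm_apply] at this

/-- The integral closure of `E ⊗ B` in `E ⊗ C` is the image of `E ⊗` the integral closure of `B` in `C`. -/
theorem integralClosure_baseChange_rel (hE : ∀ (L : Type u) [Field L] [Algebra A L], IsReduced (L ⊗[A] E))
    (B C : Type u) [CommRing B] [CommRing C] [Algebra A B] [Algebra A C] [Algebra B C] [IsScalarTower A B C]
    (y : E ⊗[A] C) :
    IsIntegral ↥(Algebra.TensorProduct.map (AlgHom.id E E) (IsScalarTower.toAlgHom A B C)).range y ↔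
      y ∈ Set.range (Algebra.TensorProduct.map (AlgHom.id E E) ((integralClosure B C).val.restrictScalars A)) := by
  classical
  let f := Algebra.TensorProduct.map (AlgHom.id E E) (IsScalarTower.toAlgHom A B C)
  constructor
  · intro hy
    obtain ⟨p, hp, hpy⟩ := hy
    have hl : p.map f.range.val.toRingHom ∈ Polynomial.lifts f.toRingHom := by
      rw [Polynomial.lifts_iff_coeff_lifts]
      intro n
      rw [Polynomial.coeff_map]
      exact (p.coeff n).2
    obtain ⟨q, hq, -, hqm⟩ := Polynomial.lifts_and_natDegree_eq_and_monic hl (hp.map _)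
    choose Dc hDc hzc using fun z : E ⊗[A] B => exists_fg_tensor z
    let B₀ : Subalgebra A B := q.coeffs.sup Dc
    have hB₀ : B₀.FG :=
      Finset.sup_induction Subalgebra.fg_bot (fun a ha b hb => ha.sup hb) fun z _ => hDc z
    haveI : Algebra.FiniteType A B₀ := (Subalgebra.fg_iff_finiteType B₀).mp hB₀
    haveI : IsNoetherianRing B₀ := Algebra.FiniteType.isNoetherianRing A B₀
    let ψ : E ⊗[A] B₀ →ₐ[E] E ⊗[A] B := Algebra.TensorProduct.map (AlgHom.id E E) B₀.val
    have hlift : q ∈ Polynomial.lifts ψ.toRingHom := by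
      rw [Polynomial.lifts_iff_coeff_lifts]
      intro n
      by_cases hn : q.coeff n = 0
      · exact ⟨0, by rw [hn, map_zero]⟩
      have hle : Dc (q.coeff n) ≤ B₀ := Finset.le_sup (Polynomial.coeff_mem_coeffs hn)
      have hmem : q.coeff n ∈ LinearMap.range (ψ.toLinearMap.restrictScalars A) := by
        refine Submodule.span_le.mpr ?_ (hzc (q.coeff n))
        rintro _ ⟨e, b, hb, rfl⟩
        exact ⟨e ⊗ₜ (⟨b, hle hb⟩ : B₀), rfl⟩
      exact hmem
    obtain ⟨q₀, hq₀, -, hq₀m⟩ := Polynomial.lifts_and_natDegree_eq_and_monic hlift hqm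
    have hmem : y ∈ Subalgebra.toSubmodule ((Algebra.TensorProduct.map (AlgHom.id E E) ((integralClosure B₀ C).val.restrictScalars A)).range) := by
      refine mem_range_of_base hE B₀ C q₀ hq₀m y ?_
      have hc : (Algebra.TensorProduct.map (AlgHom.id E E) (IsScalarTower.toAlgHom A B₀ C)).toRingHom =
          f.toRingHom.comp ψ.toRingHom := by
        refine RingHom.ext fun z => ?_
        show Algebra.TensorProduct.map (AlgHom.id E E) (IsScalarTower.toAlgHom A B₀ C) z = f (ψ z)
        induction z using TensorProduct.induction_on with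
        | zero => simp only [map_zero]
        | tmul e b =>
          simp [f, ψ, IsScalarTower.algebraMap_apply B₀ B C]
        | add u v hu hv => simp only [map_add, hu, hv]
      rw [hc, ← Polynomial.eval₂_map, hq₀, ← Polynomial.eval_map, hq, Polynomial.eval_map]
      exact hpy
    obtain ⟨z, rfl⟩ := hmem
    refine ⟨Algebra.TensorProduct.map (AlgHom.id E E) (intClosureMap B₀ B C) z, ?_⟩
    clear hpy hl
    induction z using TensorProduct.induction_on with
    | zero => simp only [map_zero]
    | tmul e c => simp only [intClosureMap, Algebra.TensorProduct.map_tmul]; rfl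
    | add u v hu hv => simp only [map_add] at hu hv ⊢; rw [hu, hv]
  · rintro ⟨z, rfl⟩
    let g := Algebra.TensorProduct.map (AlgHom.id E E) ((integralClosure B C).val.restrictScalars A)
    show IsIntegral f.range (g z)
    induction z using TensorProduct.induction_on with
    | zero => rw [map_zero]; exact isIntegral_zero
    | tmul e d =>
      have h1 : IsIntegral f.range ((1 : E) ⊗ₜ[A] (d : C)) := by
        obtain ⟨p, hp, hpd⟩ := (d.2 : IsIntegral B (d : C))
        let ib : B →+* f.range :=
          (f.rangeRestrict.toRingHom).comp (Algebra.TensorProduct.includeRight (R := A) (A := E) (B := B)).toRingHom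
        refine ⟨p.map ib, hp.map _, ?_⟩
        rw [Polynomial.eval₂_map, show (algebraMap f.range (E ⊗[A] C)).comp ib =
          (Algebra.TensorProduct.includeRight (R := A) (A := E) (B := C)).toRingHom.comp (algebraMap B C) from
          RingHom.ext fun b => by
            show f ((1 : E) ⊗ₜ[A] b) = (1 : E) ⊗ₜ[A] algebraMap B C b
            simp [f], show (1 : E) ⊗ₜ[A] (d : C) =
          (Algebra.TensorProduct.includeRight (R := A) (A := E) (B := C)).toRingHom (d : C) from rfl,
          ← Polynomial.hom_eval₂, hpd, map_zero]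
      have h2 : IsIntegral f.range (e ⊗ₜ[A] (1 : C)) := by
        have : e ⊗ₜ[A] (1 : C) = algebraMap f.range (E ⊗[A] C) (f.rangeRestrict (e ⊗ₜ 1)) := by
          show _ = f (e ⊗ₜ[A] (1 : B)); simp [f]
        rw [this]; exact isIntegral_algebraMap
      have : g (e ⊗ₜ[A] d) = e ⊗ₜ[A] (1 : C) * ((1 : E) ⊗ₜ[A] (d : C)) := by
        simp [g]
      rw [this]
      exact h2.mul h1
    | add u v hu hv => rw [map_add]; exact hu.add hv

end Groth.Agent.IntBC
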