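import Groth.Agent.IntBC.Inj
import Groth.Agent.Rat20Lib.DVRDom
import Mathlib.RingTheory.Polynomial.ScaleRoots
import Mathlib.RingTheory.Localization.Integral
import Mathlib.RingTheory.Flat.Basic

/-!
# A flat base change with reduced fibres of an integrally closed domain is integrally closed

For a Noetherian ring `A`, a flat `A`-algebra `E` whose base change to every field is reduced and an
integrally closed domain `B` over `A` with fraction field `K`, the ring `E ⊗ B` is integrally closed
in `E ⊗ K`.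
-/

namespace Groth.Agent.IntBC

universe u

open TensorProduct Polynomial

/-- A ring with a nonzerodivisor `π` modulo which it is reduced is integrally closed in the ring
obtained by inverting `π`. -/
theorem mem_range_of_reduced_mod {R T : Type u} [CommRing R] [CommRing T] (f : R →+* T)
    (hf : Function.Injective f) (π : R) (hπ : IsUnit (f π))
    (hred : ∀ (r : R) (d : ℕ), π ∣ r ^ d → π ∣ r)
    (hfrac : ∀ t : T, ∃ (n : ℕ) (r : R), f π ^ n * t = f r)
    (t : T) (ht : f.IsIntegralElem t) : t ∈ f.range := by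
  obtain ⟨p, hp, hpt⟩ := ht
  obtain ⟨n, r, hr⟩ := hfrac t
  induction n generalizing r with
  | zero => exact ⟨r, by rw [← hr, pow_zero, one_mul]⟩
  | succ n ih =>
    have h0 : (p.scaleRoots (π ^ (n + 1))).eval r = 0 := hf <| by
      rw [map_zero, ← Polynomial.eval₂_at_apply f r, ← hr, ← map_pow]
      exact scaleRoots_eval₂_eq_zero f hpt
    have hdiv : π ∣ r ^ p.natDegree := by
      rw [← Ideal.mem_span_singleton, ← Ideal.Quotient.eq_zero_iff_mem]
      have h1 : (Polynomial.map (Ideal.Quotient.mk (Ideal.span {π})) (p.scaleRoots (π ^ (n + 1)))).eval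
          (Ideal.Quotient.mk (Ideal.span {π}) r) = 0 := by
        rw [Polynomial.eval_map_apply, h0, map_zero]
      rcases subsingleton_or_nontrivial (R ⧸ Ideal.span {π}) with hq | hq
      · exact Subsingleton.elim _ _
      · rw [Polynomial.map_scaleRoots _ _ _ (by rw [hp.leadingCoeff, map_one]; exact one_ne_zero),
          map_pow, Ideal.Quotient.eq_zero_iff_mem.mpr (Ideal.mem_span_singleton_self π),
          zero_pow (Nat.succ_ne_zero n), Polynomial.scaleRoots_zero] at h1
        simpa [hp.natDegree_map, (hp.map _).leadingCoeff] using h1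
    obtain ⟨r', rfl⟩ := hred r _ hdiv
    refine ih r' ?_
    rw [pow_succ', mul_assoc, map_mul] at hr
    exact hπ.mul_left_cancel hr

section

variable {A : Type u} [CommRing A] {E : Type u} [CommRing E] [Algebra A E] [Module.Flat A E]

/-- The natural map `E ⊗ V → E ⊗ K`. -/
noncomputable abbrev baseMap (E : Type u) [CommRing E] [Algebra A E] (V K : Type u) [CommRing V] [CommRing K]
    [Algebra A V] [Algebra A K] [Algebra V K] [IsScalarTower A V K] : E ⊗[A] V →ₐ[A] E ⊗[A] K :=
  Algebra.TensorProduct.map (AlgHom.id A E) (IsScalarTower.toAlgHom A V K)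

theorem mem_range_of_dvr (hE : ∀ (L : Type u) [Field L] [Algebra A L], IsReduced (L ⊗[A] E))
    {V K : Type u} [CommRing V] [IsDomain V] [IsDiscreteValuationRing V] [Field K] [Algebra V K]
    [IsFractionRing V K] [Algebra A V] [Algebra A K] [IsScalarTower A V K]
    (y : E ⊗[A] K) (hy : (baseMap (A := A) E V K).toRingHom.IsIntegralElem y) :
    y ∈ (baseMap (A := A) E V K).toRingHom.range := by
  obtain ⟨ϖ, hϖ⟩ := IsDiscreteValuationRing.exists_irreducible V
  let g := IsScalarTower.toAlgHom A V K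
  have hg : Function.Injective g := IsFractionRing.injective V K
  have hinj : Function.Injective (baseMap (A := A) E V K) :=
    Module.Flat.lTensor_preserves_injective_linearMap (M := E) g.toLinearMap hg
  refine mem_range_of_reduced_mod (baseMap (A := A) E V K).toRingHom hinj (1 ⊗ₜ[A] ϖ) ?_ ?_ ?_ y hy
  · have hne : algebraMap V K ϖ ≠ 0 := fun h => hϖ.ne_zero (hg (h.trans (map_zero g).symm))
    exact (Ne.isUnit hne).map (Algebra.TensorProduct.includeRight (R := A) (A := E) (B := K))
  · intro r d hd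
    let L : Ideal V := Ideal.span {ϖ}
    haveI : L.IsMaximal := by
      rw [show L = IsLocalRing.maximalIdeal V from (hϖ.maximalIdeal_eq).symm]
      infer_instance
    letI : Field (V ⧸ L) := Ideal.Quotient.field L
    haveI := hE (V ⧸ L)
    haveI : IsReduced (E ⊗[A] (V ⧸ L)) := isReduced_of_injective (Algebra.TensorProduct.comm A E (V ⧸ L))
      (Algebra.TensorProduct.comm A E (V ⧸ L)).injective
    let q : E ⊗[A] V →ₐ[A] E ⊗[A] (V ⧸ L) :=
      Algebra.TensorProduct.map (AlgHom.id A E) (Ideal.Quotient.mkₐ A L)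
    have hϖ0 : q (1 ⊗ₜ[A] ϖ) = 0 := by
      simp [q, L, Ideal.Quotient.eq_zero_iff_mem.mpr (Ideal.mem_span_singleton_self ϖ)]
    have hqr : q r = 0 := by
      obtain ⟨c, hc⟩ := hd
      refine (show IsNilpotent (q r) from ⟨d, ?_⟩).eq_zero
      rw [← map_pow, hc, map_mul, hϖ0, zero_mul]
    have hex : Function.Exact (LinearMap.mulLeft A ϖ) (Ideal.Quotient.mkₐ A L).toLinearMap := by
      intro v
      show Ideal.Quotient.mk L v = 0 ↔ _
      rw [Ideal.Quotient.eq_zero_iff_mem, Ideal.mem_span_singleton']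
      exact ⟨fun ⟨a, ha⟩ => ⟨a, by rw [LinearMap.mulLeft_apply, mul_comm]; exact ha⟩,
        fun ⟨a, ha⟩ => ⟨a, by rw [mul_comm]; exact ha⟩⟩
    obtain ⟨s, hs⟩ := ((lTensor_exact E hex Ideal.Quotient.mk_surjective) r).mp hqr
    have hmul : ∀ s : E ⊗[A] V, (LinearMap.mulLeft A ϖ).lTensor E s = (1 ⊗ₜ[A] ϖ) * s := by
      intro s
      induction s using TensorProduct.induction_on with
      | zero => simp
      | tmul e v => simp
      | add a b ha hb => rw [map_add, mul_add, ha, hb]
    exact ⟨s, by rw [← hs, hmul]⟩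
  · intro t
    induction t using TensorProduct.induction_on with
    | zero => exact ⟨0, 0, by simp⟩
    | tmul e x =>
      obtain ⟨a, b, hb, rfl⟩ := IsFractionRing.div_surjective V x
      obtain ⟨n, u, hu⟩ := IsDiscreteValuationRing.eq_unit_mul_pow_irreducible (nonZeroDivisors.ne_zero hb) hϖ
      refine ⟨n, e ⊗ₜ[A] (a * (u⁻¹ : Vˣ)), ?_⟩
      have hne : algebraMap V K ϖ ≠ 0 := fun h => hϖ.ne_zero (hg (h.trans (map_zero g).symm))
      simp only [AlgHom.toRingHom_eq_coe, RingHom.coe_coe, Algebra.TensorProduct.map_tmul, AlgHom.coe_id, id_eq,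
        IsScalarTower.coe_toAlgHom', map_one, Algebra.TensorProduct.tmul_pow, one_pow,
        Algebra.TensorProduct.tmul_mul_tmul, one_mul, hu, map_mul, map_pow, map_units_inv]
      congr 1
      have hu0 : algebraMap V K (u : V) ≠ 0 := fun h => u.ne_zero (hg (h.trans (map_zero g).symm))
      field_simp
    | add t₁ t₂ h₁ h₂ =>
      obtain ⟨n₁, r₁, e₁⟩ := h₁
      obtain ⟨n₂, r₂, e₂⟩ := h₂
      refine ⟨n₁ + n₂, (1 ⊗ₜ[A] ϖ) ^ n₂ * r₁ + (1 ⊗ₜ[A] ϖ) ^ n₁ * r₂, ?_⟩
      simp only [map_add, map_mul, map_pow, ← e₁, ← e₂]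
      ring

/-- Some discrete valuation ring separates an element from the integral elements with denominators in
a multiplicative set. -/
theorem exists_dvr_separating {D K : Type u} [CommRing D] [IsDomain D] [IsNoetherianRing D] [Field K]
    [Algebra D K] [IsFractionRing D K] (S : Submonoid D) (hS : (0 : D) ∉ S) (w : K)
    (hw : ∀ s ∈ S, ¬ IsIntegral D (algebraMap D K s * w)) :
    ∃ V : ValuationSubring K, IsDiscreteValuationRing V ∧ (∀ d, algebraMap D K d ∈ V) ∧
      (∀ s ∈ S, (algebraMap D K s)⁻¹ ∈ V) ∧ w ∉ V := by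
  have hS' : S ≤ nonZeroDivisors D := fun s hs => mem_nonZeroDivisors_of_ne_zero fun h => hS (h ▸ hs)
  let D' := Localization.subalgebra.ofField K S hS'
  haveI : IsLocalization S D' := Localization.subalgebra.isLocalization_ofField K S hS'
  have hwint : ¬ IsIntegral D' w := fun h => by
    obtain ⟨⟨s, hs⟩, h'⟩ := h.exists_multiple_integral_of_isLocalization (R := D) S
    rw [Submonoid.smul_def, Algebra.smul_def] at h'
    exact hw s hs h'
  have hex : ∃ V₀ : ValuationSubring K, (D' : Set K) ⊆ V₀.toSubring ∧ w ∉ V₀ := by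
    by_contra hcon
    push Not at hcon
    apply hwint
    have hmem : w ∈ (integralClosure (Subring.closure (D' : Set K)) K).toSubring := by
      rw [← iInf_valuationSubring_superset, Subring.mem_iInf]
      exact fun V => hcon V.1 V.2
    obtain ⟨p, hp, hpw⟩ := (hmem : IsIntegral _ w)
    have hle : Subring.closure (D' : Set K) ≤ D'.toSubring := Subring.closure_le.mpr le_rfl
    refine ⟨p.map (Subring.inclusion hle), hp.map _, ?_⟩
    rw [Polynomial.eval₂_map]
    exact hpw
  obtain ⟨V₀, hV₀, hwV⟩ := hex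
  have hw0 : w ≠ 0 := fun h => hwV (h ▸ V₀.zero_mem)
  have hinv : w⁻¹ ∈ V₀.nonunits := V₀.inv_mem_nonunits_iff.2 (Or.inr hwV)
  have hDV : ∀ d : D, algebraMap D K d ∈ V₀ := fun d => hV₀ (D'.algebraMap_mem d)
  let C : Subalgebra D K := Algebra.adjoin D {w⁻¹}
  haveI : Algebra.FiniteType D C :=
    (Subalgebra.fg_iff_finiteType C).1 (by classical exact ⟨{w⁻¹}, by simp [C]⟩)
  haveI : IsNoetherianRing C := Algebra.FiniteType.isNoetherianRing D C
  haveI : IsFractionRing C K := Rat20Lib.isFractionRing_subalgebra C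
  have hCV : ∀ c : C, (c : K) ∈ V₀ := fun c => by
    let S' : Subalgebra D K := { V₀.toSubring with algebraMap_mem' := hDV }
    exact (show C ≤ S' from Algebra.adjoin_le (Set.singleton_subset_iff.2 (V₀.nonunits_subset hinv))) c.2
  let bi : C := ⟨w⁻¹, Algebra.subset_adjoin rfl⟩
  obtain ⟨V, hV, hV'⟩ := Rat20Lib.exists_dvr_same_centre (A := C) V₀ hCV
    ⟨bi, fun h => inv_ne_zero hw0 (congrArg Subtype.val h), hinv⟩
  refine ⟨V, hV, fun d => (hV' (algebraMap D C d)).1, fun s hs => ?_, fun hwv => ?_⟩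
  · have hs0 : algebraMap D K s ≠ 0 := fun h =>
      hS ((IsFractionRing.injective D K (h.trans (map_zero _).symm)) ▸ hs)
    have hinvV₀ : (algebraMap D K s)⁻¹ ∈ V₀ := by
      have h1 := congrArg Subtype.val (IsLocalization.mk'_spec D' (1 : D) (⟨s, hs⟩ : S))
      simp only [MulMemClass.coe_mul, map_one, OneMemClass.coe_one] at h1
      rw [show (algebraMap D K s)⁻¹ = ((IsLocalization.mk' D' (1 : D) (⟨s, hs⟩ : S) : D') : K) from
        inv_eq_of_mul_eq_one_left h1]
      exact hV₀ (IsLocalization.mk' D' (1 : D) (⟨s, hs⟩ : S)).2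
    have hnu : algebraMap D K s ∉ V₀.nonunits := fun h =>
      ((V₀.mem_nonunits_iff_or).1 h).resolve_left hs0 hinvV₀
    by_contra hcon
    exact hnu ((hV' (algebraMap D C s)).2.1 ((V.mem_nonunits_iff_or).2 (Or.inr hcon)))
  · exact ((V.mem_nonunits_iff_or).1 ((hV' bi).2.2 hinv)).resolve_left (inv_ne_zero hw0)
      (by simpa [bi] using hwv)

variable [IsNoetherianRing A]

/-- The Noetherian case. -/
theorem mem_range_of_noetherian (hE : ∀ (L : Type u) [Field L] [Algebra A L], IsReduced (L ⊗[A] E))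
    {D K : Type u} [CommRing D] [IsDomain D] [IsNoetherianRing D] [Field K] [Algebra D K] [IsFractionRing D K]
    [Algebra A D] [Algebra A K] [IsScalarTower A D K]
    (y : E ⊗[A] K) (hy : (baseMap (A := A) E D K).toRingHom.IsIntegralElem y) :
    y ∈ LinearMap.range (((integralClosure D K).toSubmodule.restrictScalars A).subtype.lTensor E) := by
  let C : Submodule A K := (integralClosure D K).toSubmodule.restrictScalars A
  let ι := {V : ValuationSubring K // IsDiscreteValuationRing V ∧ ∀ d, algebraMap D K d ∈ V}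
  have hAV : ∀ (V : ι) (a : A), algebraMap A K a ∈ V.1 := fun V a => by
    rw [IsScalarTower.algebraMap_apply A D K]
    exact V.2.2 _
  let W : ι → Subalgebra A K := fun V => { V.1.toSubring with algebraMap_mem' := hAV V }
  have hCW : ∀ V : ι, C ≤ Subalgebra.toSubmodule (W V) := fun V x hx => by
    show x ∈ V.1
    obtain ⟨p, hp, hpx⟩ := (hx : IsIntegral D x)
    have hint : IsIntegral V.1 x := by
      refine ⟨p.map ((algebraMap D K).codRestrict V.1.toSubring V.2.2), hp.map _, ?_⟩
      rw [Polynomial.eval₂_map]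
      exact hpx
    obtain ⟨v, rfl⟩ := IsIntegrallyClosed.isIntegral_iff.mp hint
    exact v.2
  let φ : ∀ V : ι, K ⧸ C →ₗ[A] K ⧸ Subalgebra.toSubmodule (W V) := fun V => Submodule.factor (hCW V)
  have h0 : C.mkQ.lTensor E y = 0 := by
    refine lTensor_jointly_injective φ E (fun P hP m hm => ?_) _ (fun V => ?_)
    · obtain ⟨w, rfl⟩ := Submodule.mkQ_surjective C m
      by_cases hker : ∃ a ∉ P, algebraMap A K a = 0
      · obtain ⟨a, ha, ha0⟩ := hker
        exact ⟨a, ha, by rw [← map_smul, Algebra.smul_def, ha0, zero_mul, map_zero]⟩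
      push Not at hker
      let S : Submonoid D := P.primeCompl.map (algebraMap A D)
      by_cases hint : ∃ s ∈ S, IsIntegral D (algebraMap D K s * w)
      · obtain ⟨_, ⟨a, ha, rfl⟩, hs⟩ := hint
        refine ⟨a, ha, ?_⟩
        rw [← map_smul, Submodule.mkQ_apply, Submodule.Quotient.mk_eq_zero, Algebra.smul_def,
          IsScalarTower.algebraMap_apply A D K]
        exact hs
      push Not at hint
      have hS : (0 : D) ∉ S := by
        rintro ⟨a, ha, ha0⟩
        exact hker a ha (by rw [IsScalarTower.algebraMap_apply A D K, ha0, map_zero])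
      obtain ⟨V, hV, hDV, hSV, hwV⟩ := exists_dvr_separating S hS w hint
      refine absurd ?_ hwV
      have h1 := hm ⟨V, hV, hDV⟩ (fun a ha n hn => by
        obtain ⟨x, rfl⟩ := Submodule.mkQ_surjective _ n
        rw [← map_smul, Submodule.mkQ_apply, Submodule.Quotient.mk_eq_zero] at hn
        rw [Submodule.mkQ_apply, Submodule.Quotient.mk_eq_zero]
        show x ∈ V
        have hinv := hSV _ ⟨a, ha, rfl⟩
        rw [← IsScalarTower.algebraMap_apply] at hinv
        have hmul := V.mul_mem _ _ hinv hn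
        rwa [Algebra.smul_def, ← mul_assoc, inv_mul_cancel₀ (hker a ha), one_mul] at hmul)
      exact (Submodule.Quotient.mk_eq_zero _).mp h1
    · haveI := V.2.1
      letI : Algebra A V.1 := ((algebraMap A K).codRestrict V.1.toSubring (hAV V)).toAlgebra
      haveI : IsScalarTower A V.1 K := IsScalarTower.of_algebraMap_eq fun a => rfl
      let k : D →ₐ[A] V.1 := AlgHom.mk ((algebraMap D K).codRestrict V.1.toSubring V.2.2)
        fun a => Subtype.ext (IsScalarTower.algebraMap_apply A D K a).symm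
      have hcomp : (baseMap (A := A) E V.1 K).comp (Algebra.TensorProduct.map (AlgHom.id A E) k) =
          baseMap (A := A) E D K := by
        rw [← Algebra.TensorProduct.map_comp]
        rfl
      have hyV : (baseMap (A := A) E V.1 K).toRingHom.IsIntegralElem y := by
        obtain ⟨p, hp, hpy⟩ := hy
        refine ⟨p.map (Algebra.TensorProduct.map (AlgHom.id A E) k).toRingHom, hp.map _, ?_⟩
        rw [Polynomial.eval₂_map, ← hpy, ← hcomp]
        rfl
      obtain ⟨z, rfl⟩ := mem_range_of_dvr hE y hyV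
      clear hy hyV
      rw [← LinearMap.lTensor_comp_apply, show φ V ∘ₗ C.mkQ = (Subalgebra.toSubmodule (W V)).mkQ from
        Submodule.factor_comp_mk _]
      induction z using TensorProduct.induction_on with
      | zero => simp
      | tmul e v =>
        show e ⊗ₜ[A] (Subalgebra.toSubmodule (W V)).mkQ (v : K) = 0
        rw [Submodule.mkQ_apply, (Submodule.Quotient.mk_eq_zero _).mpr v.2, tmul_zero]
      | add a b ha hb => simp only [map_add] at ha hb ⊢; rw [ha, hb, add_zero]
  exact ((lTensor_exact E (LinearMap.exact_subtype_mkQ C) C.mkQ_surjective) y).mp h0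

end

section

variable {A : Type u} [CommRing A] {E : Type u} [CommRing E] [Algebra A E] {B K : Type u} [CommRing B]
  [Algebra A B] [Field K] [Algebra B K] [Algebra A K] [IsScalarTower A B K]

/-- Every element of `E ⊗ B` comes from a finitely generated subalgebra. -/
theorem exists_fg_tensor (z : E ⊗[A] B) : ∃ D : Subalgebra A B, D.FG ∧
    z ∈ Submodule.span A {z | ∃ (e : E) (b : B), b ∈ D ∧ e ⊗ₜ[A] b = z} := by
  classical
  induction z using TensorProduct.induction_on with
  | zero => exact ⟨⊥, Subalgebra.fg_bot, zero_mem _⟩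
  | tmul e b =>
    exact ⟨Algebra.adjoin A {b}, ⟨{b}, by simp⟩, Submodule.subset_span ⟨e, b, Algebra.subset_adjoin rfl, rfl⟩⟩
  | add z₁ z₂ h₁ h₂ =>
    obtain ⟨D₁, h₁, h₁'⟩ := h₁
    obtain ⟨D₂, h₂, h₂'⟩ := h₂
    refine ⟨D₁ ⊔ D₂, h₁.sup h₂, add_mem ?_ ?_⟩
    · exact Submodule.span_mono (by rintro _ ⟨e, b, hb, h⟩; exact ⟨e, b, (le_sup_left : D₁ ≤ D₁ ⊔ D₂) hb, h⟩) h₁'
    · exact Submodule.span_mono (by rintro _ ⟨e, b, hb, h⟩; exact ⟨e, b, (le_sup_right : D₂ ≤ D₁ ⊔ D₂) hb, h⟩) h₂'

/-- Every element of `E ⊗ K` has numerators and denominators in a finitely generated subalgebra. -/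
theorem exists_fg_frac [IsFractionRing B K] (y : E ⊗[A] K) : ∃ D : Subalgebra A B, D.FG ∧
    y ∈ Submodule.span A {y | ∃ (e : E) (b c : B), b ∈ D ∧ c ∈ D ∧
      e ⊗ₜ[A] (algebraMap B K b / algebraMap B K c) = y} := by
  classical
  induction y using TensorProduct.induction_on with
  | zero => exact ⟨⊥, Subalgebra.fg_bot, zero_mem _⟩
  | tmul e x =>
    obtain ⟨b, c, hc, rfl⟩ := IsFractionRing.div_surjective B x
    exact ⟨Algebra.adjoin A {b, c}, ⟨{b, c}, by simp⟩,
      Submodule.subset_span ⟨e, b, c, Algebra.subset_adjoin (by simp), Algebra.subset_adjoin (by simp), rfl⟩⟩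
  | add z₁ z₂ h₁ h₂ =>
    obtain ⟨D₁, h₁, h₁'⟩ := h₁
    obtain ⟨D₂, h₂, h₂'⟩ := h₂
    refine ⟨D₁ ⊔ D₂, h₁.sup h₂, add_mem ?_ ?_⟩
    · exact Submodule.span_mono (by rintro _ ⟨e, b, c, hb, hc, h⟩; exact ⟨e, b, c, (le_sup_left : D₁ ≤ D₁ ⊔ D₂) hb, (le_sup_left : D₁ ≤ D₁ ⊔ D₂) hc, h⟩) h₁'
    · exact Submodule.span_mono (by rintro _ ⟨e, b, c, hb, hc, h⟩; exact ⟨e, b, c, (le_sup_right : D₂ ≤ D₁ ⊔ D₂) hb, (le_sup_right : D₂ ≤ D₁ ⊔ D₂) hc, h⟩) h₂'

variable [Module.Flat A E] [IsNoetherianRing A] [IsDomain B] [IsIntegrallyClosed B] [IsFractionRing B K]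

/-- Integrality descends along a commutative square with an injective bottom map. -/
theorem isIntegralElem_of_square {R R' T T' : Type u} [CommRing R] [CommRing R'] [CommRing T] [CommRing T']
    (a : R' →+* R) (g : R' →+* T') (f : R →+* T) (J : T' →+* T) (hJ : Function.Injective J)
    (h : J.comp g = f.comp a) (p : R[X]) (hp : p.Monic) (hl : p ∈ Polynomial.lifts a) (y : T')
    (hy : p.eval₂ f (J y) = 0) : g.IsIntegralElem y := by
  obtain ⟨q, hq, -, hqm⟩ := Polynomial.lifts_and_natDegree_eq_and_monic hl hp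
  refine ⟨q, hqm, hJ ?_⟩
  rw [map_zero, Polynomial.hom_eval₂, h, ← Polynomial.eval₂_map, hq, hy]

/-- Descent to a Noetherian model. -/
theorem mem_range_of_model
    (hE : ∀ (L : Type u) [Field L] [Algebra A L], IsReduced (L ⊗[A] E))
    {D K₀ : Type u} [CommRing D] [IsDomain D] [IsNoetherianRing D] [Algebra A D] [Field K₀] [Algebra D K₀]
    [IsFractionRing D K₀] [Algebra A K₀] [IsScalarTower A D K₀] (φ : D →ₐ[A] B) (j : K₀ →ₐ[A] K)
    (hj : ∀ d, j (algebraMap D K₀ d) = algebraMap B K (φ d))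
    (p : (E ⊗[A] B)[X]) (hp : p.Monic)
    (hl : p ∈ Polynomial.lifts (Algebra.TensorProduct.map (AlgHom.id A E) φ).toRingHom)
    (y₀ : E ⊗[A] K₀)
    (hy : p.eval₂ (baseMap (A := A) E B K).toRingHom (Algebra.TensorProduct.map (AlgHom.id A E) j y₀) = 0) :
    Algebra.TensorProduct.map (AlgHom.id A E) j y₀ ∈ (baseMap (A := A) E B K).toRingHom.range := by
  let J : E ⊗[A] K₀ →ₐ[A] E ⊗[A] K := Algebra.TensorProduct.map (AlgHom.id A E) j
  have hJ : Function.Injective J :=
    Module.Flat.lTensor_preserves_injective_linearMap (M := E) j.toLinearMap j.toRingHom.injective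
  have hJψ : J.comp (baseMap (A := A) E D K₀) =
      (baseMap (A := A) E B K).comp (Algebra.TensorProduct.map (AlgHom.id A E) φ) := by
    rw [← Algebra.TensorProduct.map_comp, ← Algebra.TensorProduct.map_comp]
    congr 1
    exact AlgHom.ext hj
  have hy₀ := isIntegralElem_of_square _ (baseMap (A := A) E D K₀).toRingHom _ J.toRingHom hJ
    (congrArg AlgHom.toRingHom hJψ) p hp hl y₀ hy
  obtain ⟨z, rfl⟩ := mem_range_of_noetherian hE y₀ hy₀
  clear hy₀ hy
  induction z using TensorProduct.induction_on with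
  | zero => simp
  | tmul e x =>
    have hint : IsIntegral B (j x.1) := by
      obtain ⟨r, hr, hrx⟩ := (x.2 : IsIntegral D x.1)
      refine ⟨r.map φ.toRingHom, hr.map _, ?_⟩
      have hc : (algebraMap B K).comp φ.toRingHom = j.toRingHom.comp (algebraMap D K₀) :=
        RingHom.ext fun d => (hj d).symm
      rw [Polynomial.eval₂_map, hc, show j x.1 = j.toRingHom x.1 from rfl, ← Polynomial.hom_eval₂, hrx, map_zero]
    obtain ⟨b, hb⟩ := IsIntegrallyClosed.isIntegral_iff.mp hint
    exact ⟨e ⊗ₜ b, by simp [hb]⟩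
  | add a b ha hb => rw [map_add, map_add]; exact add_mem ha hb

/-- `E ⊗ B` is integrally closed in `E ⊗ K`. -/
theorem mem_range_of_isIntegral (hE : ∀ (L : Type u) [Field L] [Algebra A L], IsReduced (L ⊗[A] E))
    (y : E ⊗[A] K) (hy : (baseMap (A := A) E B K).toRingHom.IsIntegralElem y) :
    y ∈ (baseMap (A := A) E B K).toRingHom.range := by
  classical
  obtain ⟨p, hp, hpy⟩ := hy
  obtain ⟨D₀, hD₀, hyD⟩ := exists_fg_frac (B := B) y
  choose Dc hDc hzc using fun z : E ⊗[A] B => exists_fg_tensor z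
  let D : Subalgebra A B := D₀ ⊔ p.coeffs.sup Dc
  have hDfg : D.FG :=
    hD₀.sup (Finset.sup_induction Subalgebra.fg_bot (fun a ha b hb => ha.sup hb) fun z _ => hDc z)
  haveI : Algebra.FiniteType A D := (Subalgebra.fg_iff_finiteType D).mp hDfg
  haveI : IsNoetherianRing D := Algebra.FiniteType.isNoetherianRing A D
  let g : D →ₐ[A] K := (IsScalarTower.toAlgHom A B K).comp D.val
  have hinjD : Function.Injective g := (IsFractionRing.injective B K).comp Subtype.val_injective
  let j : FractionRing D →ₐ[A] K := IsFractionRing.liftAlgHom (g := g) hinjD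
  have hj : ∀ d : D, j (algebraMap D (FractionRing D) d) = algebraMap B K (d : B) := fun d =>
    IsLocalization.lift_eq _ d
  let ψ : E ⊗[A] D →ₐ[A] E ⊗[A] B := Algebra.TensorProduct.map (AlgHom.id A E) D.val
  let J : E ⊗[A] FractionRing D →ₐ[A] E ⊗[A] K := Algebra.TensorProduct.map (AlgHom.id A E) j
  have hy' : y ∈ LinearMap.range J.toLinearMap := by
    refine Submodule.span_le.mpr ?_ hyD
    rintro _ ⟨e, b, c, hb, hc, rfl⟩
    let b' : D := ⟨b, (le_sup_left : D₀ ≤ D) hb⟩
    let c' : D := ⟨c, (le_sup_left : D₀ ≤ D) hc⟩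
    refine ⟨e ⊗ₜ (algebraMap D (FractionRing D) b' / algebraMap D (FractionRing D) c'), ?_⟩
    show e ⊗ₜ[A] j (_ / _) = _
    rw [map_div₀, hj, hj]
  obtain ⟨y₀, rfl⟩ := hy'
  have hlift : p ∈ Polynomial.lifts ψ.toRingHom := by
    rw [Polynomial.lifts_iff_coeff_lifts]
    intro n
    by_cases hn : p.coeff n = 0
    · exact ⟨0, by rw [hn, map_zero]⟩
    have hle : Dc (p.coeff n) ≤ D :=
      le_sup_of_le_right (Finset.le_sup (Polynomial.coeff_mem_coeffs hn))
    have hmem : p.coeff n ∈ LinearMap.range ψ.toLinearMap := by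
      refine Submodule.span_le.mpr ?_ (hzc (p.coeff n))
      rintro _ ⟨e, b, hb, rfl⟩
      exact ⟨e ⊗ₜ (⟨b, hle hb⟩ : D), rfl⟩
    exact hmem
  exact mem_range_of_model hE D.val j hj p hp hlift y₀ hpy

end

end Groth.Agent.IntBC
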