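import Groth.Agent.IntBC.Main
import Mathlib.RingTheory.Spectrum.Prime.Noetherian

/-!
# The integral closure after a flat base change
-/

namespace Groth.Agent.IntBC

universe u

open TensorProduct Polynomial

variable {A : Type u} [CommRing A] [IsNoetherianRing A]

/-- Some discrete valuation ring of a finitely generated field extension separates an element from
the integral ones. -/
theorem exists_dvr_separating_fg {K : Type u} [Field K] [Algebra A K] (Z : Finset K)
    (hgen : ∀ x : K, ∃ a ∈ Algebra.adjoin A (Z : Set K), ∃ b ∈ Algebra.adjoin A (Z : Set K), a / b = x)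
    (S : Submonoid A) (hS : ∀ s ∈ S, algebraMap A K s ≠ 0) (w : K)
    (hw : ∀ s ∈ S, ¬ IsIntegral A (algebraMap A K s * w)) :
    ∃ V : ValuationSubring K, IsDiscreteValuationRing V ∧ (∀ a, algebraMap A K a ∈ V) ∧
      (∀ s ∈ S, (algebraMap A K s)⁻¹ ∈ V) ∧ w ∉ V := by
  classical
  let L := Localization S
  let l : L →+* K := IsLocalization.lift (M := S) (g := algebraMap A K) fun s => (hS s s.2).isUnit
  letI : Algebra L K := l.toAlgebra
  haveI : IsScalarTower A L K := IsScalarTower.of_algebraMap_eq fun a => (IsLocalization.lift_eq _ a).symm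
  let G : Set K := Set.range l
  have hG : ∀ a : A, algebraMap A K a ∈ G := fun a => ⟨algebraMap A L a, IsLocalization.lift_eq _ a⟩
  have hex : ∃ V₀ : ValuationSubring K, G ⊆ V₀.toSubring ∧ w ∉ V₀ := by
    by_contra hcon
    push Not at hcon
    have hmem : w ∈ (integralClosure (Subring.closure G) K).toSubring := by
      rw [← iInf_valuationSubring_superset, Subring.mem_iInf]
      exact fun V => hcon V.1 V.2
    obtain ⟨p, hp, hpw⟩ := (hmem : IsIntegral _ w)
    have hle : Subring.closure G ≤ l.range := Subring.closure_le.mpr le_rfl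
    have hl : p.map (Subring.closure G).subtype ∈ Polynomial.lifts l := by
      rw [Polynomial.lifts_iff_coeff_lifts]
      intro n
      rw [Polynomial.coeff_map]
      exact hle (p.coeff n).2
    obtain ⟨q, hq, -, hqm⟩ := Polynomial.lifts_and_natDegree_eq_and_monic hl (hp.map _)
    have hwL : IsIntegral L w := by
      refine ⟨q, hqm, ?_⟩
      show eval₂ l w q = 0
      rw [← Polynomial.eval_map, hq, Polynomial.eval_map]
      exact hpw
    obtain ⟨⟨s, hs⟩, h'⟩ := hwL.exists_multiple_integral_of_isLocalization (R := A) S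
    rw [Submonoid.smul_def, Algebra.smul_def] at h'
    exact hw s hs h'
  obtain ⟨V₀, hV₀, hwV⟩ := hex
  have hw0 : w ≠ 0 := fun h => hwV (h ▸ V₀.zero_mem)
  have hinv : w⁻¹ ∈ V₀.nonunits := V₀.inv_mem_nonunits_iff.2 (Or.inr hwV)
  have hAV : ∀ a : A, algebraMap A K a ∈ V₀ := fun a => hV₀ (hG a)
  let zc : K → K := fun z => if z ∈ V₀ then z else z⁻¹
  have hzc : ∀ z, zc z ∈ V₀ := fun z => by
    by_cases hz : z ∈ V₀
    · simp only [zc, if_pos hz]; exact hz
    · simp only [zc, if_neg hz]; exact (V₀.mem_or_inv_mem z).resolve_left hz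
  let C : Subalgebra A K := Algebra.adjoin A (insert w⁻¹ ((Z.image zc : Finset K) : Set K))
  haveI : Algebra.FiniteType A C :=
    (Subalgebra.fg_iff_finiteType C).1 ⟨insert w⁻¹ (Z.image zc), by simp [C]⟩
  haveI : IsNoetherianRing C := Algebra.FiniteType.isNoetherianRing A C
  have hCV : ∀ c : C, (c : K) ∈ V₀ := fun c => by
    let S' : Subalgebra A K := { V₀.toSubring with algebraMap_mem' := hAV }
    refine (show C ≤ S' from Algebra.adjoin_le ?_) c.2
    rintro x (rfl | hx)
    · exact V₀.nonunits_subset hinv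
    · obtain ⟨z, -, rfl⟩ := Finset.mem_image.mp hx
      exact hzc z
  haveI : IsFractionRing C K := by
    refine IsFractionRing.of_field C K fun x => ?_
    let F : Subfield K := Subfield.closure (C : Set K)
    let SF : Subalgebra A K :=
      { F.toSubring with algebraMap_mem' := fun a => Subfield.subset_closure (C.algebraMap_mem a) }
    have hZF : Algebra.adjoin A (Z : Set K) ≤ SF := by
      refine Algebra.adjoin_le fun z hz => ?_
      have hzC : zc z ∈ C := Algebra.subset_adjoin
        (Set.mem_insert_of_mem _ (Finset.mem_image_of_mem zc hz))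
      show z ∈ F
      by_cases hz' : z ∈ V₀
      · simp only [zc, if_pos hz'] at hzC
        exact Subfield.subset_closure hzC
      · simp only [zc, if_neg hz'] at hzC
        simpa using F.inv_mem (Subfield.subset_closure hzC)
    obtain ⟨a, ha, b, hb, rfl⟩ := hgen x
    have hx : a / b ∈ F := F.div_mem (hZF ha) (hZF hb)
    obtain ⟨y, hy, z, hz, hyz⟩ := Subfield.mem_closure_iff.mp hx
    have hcl : Subring.closure (C : Set K) ≤ C.toSubring := Subring.closure_le.mpr le_rfl
    exact ⟨⟨y, hcl hy⟩, ⟨z, hcl hz⟩, hyz.symm⟩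
  let bi : C := ⟨w⁻¹, Algebra.subset_adjoin (Set.mem_insert _ _)⟩
  obtain ⟨V, hV, hV'⟩ := Rat20Lib.exists_dvr_same_centre (A := C) V₀ hCV
    ⟨bi, fun h => inv_ne_zero hw0 (congrArg Subtype.val h), hinv⟩
  refine ⟨V, hV, fun a => (hV' (algebraMap A C a)).1, fun s hs => ?_, fun hwv => ?_⟩
  · have hinvV₀ : (algebraMap A K s)⁻¹ ∈ V₀ := hV₀ <| by
      refine ⟨IsLocalization.mk' L (1 : A) (⟨s, hs⟩ : S), ?_⟩
      refine eq_inv_of_mul_eq_one_left ?_
      rw [← IsLocalization.lift_eq (M := S) (S := L) (g := algebraMap A K) (fun s => (hS s s.2).isUnit) s,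
        ← map_mul, IsLocalization.mk'_spec L (1 : A) (⟨s, hs⟩ : S), map_one, map_one]
    have hnu : algebraMap A K s ∉ V₀.nonunits := fun h =>
      ((V₀.mem_nonunits_iff_or).1 h).resolve_left (hS s hs) hinvV₀
    by_contra hcon
    exact hnu ((hV' (algebraMap A C s)).2.1 ((V.mem_nonunits_iff_or).2 (Or.inr hcon)))
  · exact ((V.mem_nonunits_iff_or).1 ((hV' bi).2.2 hinv)).resolve_left (inv_ne_zero hw0)
      (by simpa [bi] using hwv)

variable {E : Type u} [CommRing E] [Algebra A E] [Module.Flat A E]

/-- The field case. -/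
theorem mem_range_of_field (hE : ∀ (L : Type u) [Field L] [Algebra A L], IsReduced (L ⊗[A] E))
    {K : Type u} [Field K] [Algebra A K] (Z : Finset K)
    (hgen : ∀ x : K, ∃ a ∈ Algebra.adjoin A (Z : Set K), ∃ b ∈ Algebra.adjoin A (Z : Set K), a / b = x)
    (y : E ⊗[A] K) (hy : IsIntegral E y) :
    y ∈ LinearMap.range ((integralClosure A K).toSubmodule.subtype.lTensor E) := by
  let C : Submodule A K := (integralClosure A K).toSubmodule
  let ι := {V : ValuationSubring K // IsDiscreteValuationRing V ∧ ∀ a, algebraMap A K a ∈ V}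
  let W : ι → Subalgebra A K := fun V => { V.1.toSubring with algebraMap_mem' := V.2.2 }
  have hCW : ∀ V : ι, C ≤ Subalgebra.toSubmodule (W V) := fun V x hx => by
    show x ∈ V.1
    obtain ⟨p, hp, hpx⟩ := (hx : IsIntegral A x)
    have hint : IsIntegral V.1 x := by
      refine ⟨p.map ((algebraMap A K).codRestrict V.1.toSubring V.2.2), hp.map _, ?_⟩
      rw [Polynomial.eval₂_map]
      exact hpx
    obtain ⟨v, rfl⟩ := IsIntegrallyClosed.isIntegral_iff.mp hint
    exact v.2
  let φ : ∀ V : ι, K ⧸ C →ₗ[A] K ⧸ Subalgebra.toSubmodule (W V) := fun V => Submodule.factor (hCW V)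
  have h0 : C.mkQ.lTensor E y = 0 := by
    refine lTensor_jointly_injective φ E (fun P hP m hm => ?_) _ (fun V => ?_)
    · obtain ⟨w, rfl⟩ := Submodule.mkQ_surjective C m
      by_cases hker : ∃ a ∉ P, algebraMap A K a = 0
      · obtain ⟨a, ha, ha0⟩ := hker
        exact ⟨a, ha, by rw [← map_smul, Algebra.smul_def, ha0, zero_mul, map_zero]⟩
      push Not at hker
      by_cases hint : ∃ s ∈ P.primeCompl, IsIntegral A (algebraMap A K s * w)
      · obtain ⟨a, ha, hs⟩ := hint
        refine ⟨a, ha, ?_⟩
        rw [← map_smul, Submodule.mkQ_apply, Submodule.Quotient.mk_eq_zero, Algebra.smul_def]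
        exact hs
      push Not at hint
      obtain ⟨V, hV, hAV, hSV, hwV⟩ := exists_dvr_separating_fg Z hgen P.primeCompl hker w hint
      refine absurd ?_ hwV
      have h1 := hm ⟨V, hV, hAV⟩ (fun a ha n hn => by
        obtain ⟨x, rfl⟩ := Submodule.mkQ_surjective _ n
        rw [← map_smul, Submodule.mkQ_apply, Submodule.Quotient.mk_eq_zero] at hn
        rw [Submodule.mkQ_apply, Submodule.Quotient.mk_eq_zero]
        show x ∈ V
        have hmul := V.mul_mem _ _ (hSV a ha) hn
        rwa [Algebra.smul_def, ← mul_assoc, inv_mul_cancel₀ (hker a ha), one_mul] at hmul)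
      exact (Submodule.Quotient.mk_eq_zero _).mp h1
    · haveI := V.2.1
      letI : Algebra A V.1 := ((algebraMap A K).codRestrict V.1.toSubring V.2.2).toAlgebra
      haveI : IsScalarTower A V.1 K := IsScalarTower.of_algebraMap_eq fun a => rfl
      have hyV : (baseMap (A := A) E V.1 K).toRingHom.IsIntegralElem y := by
        obtain ⟨p, hp, hpy⟩ := hy
        refine ⟨p.map (algebraMap E (E ⊗[A] V.1)), hp.map _, ?_⟩
        rw [Polynomial.eval₂_map, ← hpy]
        congr 1
      obtain ⟨z, rfl⟩ := mem_range_of_dvr hE y hyV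
      clear hy hyV
      rw [← LinearMap.lTensor_comp_apply, show φ V ∘ₗ C.mkQ = (Subalgebra.toSubmodule (W V)).mkQ from
        Submodule.factor_comp_mk _]
      induction z using TensorProduct.induction_on with
      | zero => simp
      | tmul e v =>
        show e ⊗ₜ[A] (Subalgebra.toSubmodule (W V)).mkQ (v : K) = 0
        rw [Submodule.mkQ_apply, (Submodule.Quotient.mk_eq_zero _).mpr v.2, tmul_zero]
      | add a b ha hb => simp only [map_add] at ha hb ⊢; rw [ha, hb, add_zero]
  exact ((lTensor_exact E (LinearMap.exact_subtype_mkQ C) C.mkQ_surjective) y).mp h0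

/-- The finitely generated case. -/
theorem mem_range_of_finiteType (hE : ∀ (L : Type u) [Field L] [Algebra A L], IsReduced (L ⊗[A] E))
    {D : Type u} [CommRing D] [Algebra A D] [Algebra.FiniteType A D] (y : E ⊗[A] D) (hy : IsIntegral E y) :
    y ∈ LinearMap.range ((integralClosure A D).toSubmodule.subtype.lTensor E) := by
  classical
  haveI : IsNoetherianRing D := Algebra.FiniteType.isNoetherianRing A D
  haveI : Fintype {P : Ideal D // P ∈ minimalPrimes D} := (minimalPrimes.finite_of_isNoetherianRing D).fintype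
  haveI : ∀ i : {P : Ideal D // P ∈ minimalPrimes D}, i.1.IsPrime := fun i => i.2.1.1
  obtain ⟨G, hG⟩ := Algebra.FiniteType.out (R := A) (A := D)
  let F := fun i : {P : Ideal D // P ∈ minimalPrimes D} => i.1.ResidueField
  let π : ∀ i, D →ₐ[A] F i := fun i => IsScalarTower.toAlgHom A D _
  let C := fun i => (integralClosure A (F i)).toSubmodule
  let g : D →ₗ[A] ∀ i, F i ⧸ C i := LinearMap.pi fun i => (C i).mkQ.comp (π i).toLinearMap
  have hex : Function.Exact (integralClosure A D).toSubmodule.subtype g := by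
    intro x
    constructor
    · intro hx
      have hi : ∀ i, ∃ p : A[X], p.Monic ∧ π i (aeval x p) = 0 := fun i => by
        obtain ⟨p, hp, hpx⟩ := ((Submodule.Quotient.mk_eq_zero (C i)).mp (congrFun hx i) : IsIntegral A (π i x))
        exact ⟨p, hp, by rw [← Polynomial.aeval_algHom_apply]; exact hpx⟩
      choose p hp hpx using hi
      let r : A[X] := ∏ i, p i
      have hr : aeval x r ∈ nilradical D := by
        rw [show nilradical D = sInf ((⊥ : Ideal D).minimalPrimes) from (Ideal.sInf_minimalPrimes).symm,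
          Ideal.mem_sInf]
        intro I hI
        haveI : I.IsPrime := hI.1.1
        obtain ⟨c, hc⟩ := Finset.dvd_prod_of_mem p (Finset.mem_univ (⟨I, hI⟩ : {P : Ideal D // P ∈ minimalPrimes D}))
        rw [show r = p ⟨I, hI⟩ * c from hc, map_mul]
        exact I.mul_mem_right _ (Ideal.algebraMap_residueField_eq_zero.mp (hpx ⟨I, hI⟩))
      obtain ⟨n, hn⟩ := hr
      exact ⟨⟨x, ⟨r ^ n, (monic_prod_of_monic _ _ fun i _ => hp i).pow n, by
        rw [← Polynomial.aeval_def, map_pow, hn]⟩⟩, rfl⟩
    · rintro ⟨⟨c, hc⟩, rfl⟩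
      funext i
      exact (Submodule.Quotient.mk_eq_zero _).mpr ((hc : IsIntegral A c).map (π i))
  refine (Module.Flat.lTensor_exact E hex y).mp ?_
  refine (LinearEquiv.map_eq_zero_iff (TensorProduct.piRight A A E (fun i => F i ⧸ C i))).mp ?_
  funext i
  have key : ∀ z : E ⊗[A] D, TensorProduct.piRight A A E (fun i => F i ⧸ C i) (g.lTensor E z) i =
      (C i).mkQ.lTensor E (Algebra.TensorProduct.map (AlgHom.id E E) (π i) z) := by
    intro z
    induction z using TensorProduct.induction_on with
    | zero => simp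
    | tmul e m => simp [g]
    | add b c hb hc => simp only [map_add, Pi.add_apply, hb, hc]
  have hgen : ∀ z : F i, ∃ a ∈ Algebra.adjoin A ((G.image (π i) : Finset (F i)) : Set (F i)),
      ∃ b ∈ Algebra.adjoin A ((G.image (π i) : Finset (F i)) : Set (F i)), a / b = z := by
    intro z
    have hr : ∀ d : D, π i d ∈ Algebra.adjoin A ((G.image (π i) : Finset (F i)) : Set (F i)) := fun d => by
      rw [Finset.coe_image, Algebra.adjoin_image, hG]
      exact ⟨d, Algebra.mem_top, rfl⟩
    obtain ⟨a, b, -, rfl⟩ := IsFractionRing.div_surjective (D ⧸ i.1) z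
    obtain ⟨a, rfl⟩ := Ideal.Quotient.mk_surjective a
    obtain ⟨b, rfl⟩ := Ideal.Quotient.mk_surjective b
    exact ⟨_, hr a, _, hr b, by simp [π, ← Ideal.Quotient.algebraMap_eq, ← IsScalarTower.algebraMap_apply]⟩
  obtain ⟨w, hw⟩ := mem_range_of_field hE _ hgen _ (hy.map (Algebra.TensorProduct.map (AlgHom.id E E) (π i)))
  rw [key, ← hw, ← LinearMap.lTensor_comp_apply, (LinearMap.exact_subtype_mkQ _).linearMap_comp_eq_zero]
  simp

/-- The integral closure of the base in a flat base change with reduced fibres. -/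
theorem integralClosure_baseChange (hE : ∀ (L : Type u) [Field L] [Algebra A L], IsReduced (L ⊗[A] E))
    (B : Type u) [CommRing B] [Algebra A B] :
    integralClosure E (E ⊗[A] B) =
      Algebra.adjoin E ((Algebra.TensorProduct.includeRight : B →ₐ[A] E ⊗[A] B) '' (integralClosure A B)) := by
  refine le_antisymm (fun y hy => ?_) ?_
  · obtain ⟨D, hD, hyD⟩ := exists_fg_tensor y
    haveI : Algebra.FiniteType A D := (Subalgebra.fg_iff_finiteType D).mp hD
    let f : E ⊗[A] D →ₐ[E] E ⊗[A] B := Algebra.TensorProduct.map (AlgHom.id E E) D.val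
    have hf : Function.Injective f :=
      Module.Flat.lTensor_preserves_injective_linearMap (M := E) D.val.toLinearMap Subtype.val_injective
    obtain ⟨y₀, rfl⟩ : y ∈ LinearMap.range (f.toLinearMap.restrictScalars A) := by
      refine Submodule.span_le.mpr ?_ hyD
      rintro _ ⟨e, b, hb, rfl⟩
      exact ⟨e ⊗ₜ (⟨b, hb⟩ : D), rfl⟩
    obtain ⟨z, rfl⟩ := mem_range_of_finiteType hE y₀ ((isIntegral_algHom_iff f hf).mp hy)
    clear hy hyD
    induction z using TensorProduct.induction_on with
    | zero => simp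
    | tmul e c =>
      have hc : IsIntegral A (c.1 : B) := (c.2 : IsIntegral A c.1).map D.val
      have hmul : e ⊗ₜ[A] ((c.1 : D) : B) = algebraMap E (E ⊗[A] B) e * (1 ⊗ₜ[A] ((c.1 : D) : B)) := by
        simp [Algebra.TensorProduct.algebraMap_apply]
      show e ⊗ₜ[A] ((c.1 : D) : B) ∈ _
      rw [hmul]
      exact mul_mem (Subalgebra.algebraMap_mem _ e) (Algebra.subset_adjoin ⟨_, hc, rfl⟩)
    | add a b ha hb => simp only [map_add] at ha hb ⊢; exact add_mem ha hb
  · refine Algebra.adjoin_le ?_
    rintro _ ⟨c, hc, rfl⟩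
    have h1 : IsIntegral A (Algebra.TensorProduct.includeRight (R := A) (A := E) c) :=
      (hc : IsIntegral A c).map _
    exact h1.tower_top

end Groth.Agent.IntBC
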