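import Mathlib.RingTheory.Ideal.AssociatedPrime.Basic
import Mathlib.RingTheory.Localization.AtPrime.Basic
import Mathlib.RingTheory.Artinian.Module
import Mathlib.RingTheory.Flat.Basic
import Mathlib.LinearAlgebra.TensorProduct.Pi
import Mathlib.RingTheory.Localization.Finiteness
import Mathlib.Algebra.Module.Torsion.Basic

/-!
# Joint injectivity after a flat base change
-/

namespace Groth.Agent.IntBC

universe u

open TensorProduct

variable {A : Type u} [CommRing A] [IsNoetherianRing A]

/-- The maximal ideal of `A_P` kills the localization of a module killed by `P`. -/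
theorem isArtinian_localized (P : Ideal A) [P.IsPrime] (M : Type u) [AddCommGroup M] [Module A M]
    [Module.Finite A M] (hM : ∀ a ∈ P, ∀ x : M, a • x = 0) :
    IsArtinian (Localization.AtPrime P) (LocalizedModule P.primeCompl M) := by
  let R := Localization.AtPrime P
  let L := LocalizedModule P.primeCompl M
  let m : Ideal R := IsLocalRing.maximalIdeal R
  haveI : Module.Finite R L := Module.Finite.of_isLocalizedModule P.primeCompl (LocalizedModule.mkLinearMap _ M)
  have hL : Module.IsTorsionBySet R L m := by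
    rintro x ⟨r, hr⟩
    obtain ⟨a, s, rfl⟩ := IsLocalization.exists_mk'_eq P.primeCompl r
    induction x using LocalizedModule.induction_on with
    | _ x t =>
      have ha : a ∈ P := (IsLocalization.AtPrime.mk'_mem_maximal_iff R P a s).mp hr
      show IsLocalization.mk' (Localization P.primeCompl) a s • LocalizedModule.mk x t = 0
      rw [← Localization.mk_eq_mk', LocalizedModule.mk_smul_mk, hM a ha x, LocalizedModule.zero_mk]
  letI := hL.module
  haveI : IsScalarTower R (R ⧸ m) L := hL.isScalarTower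
  letI := Ideal.Quotient.field m
  haveI : Module.Finite (R ⧸ m) L := Module.Finite.of_restrictScalars_finite R _ _
  haveI : IsArtinian (R ⧸ m) L := isArtinian_of_fg_of_artinian'
  exact isArtinian_of_surjective_algebraMap (R := R ⧸ m) (S := R) Ideal.Quotient.mk_surjective

variable {M : Type u} [AddCommGroup M] [Module A M] {ι : Type u} {N : ι → Type u}
  [∀ i, AddCommGroup (N i)] [∀ i, Module A (N i)] (φ : ∀ i, M →ₗ[A] N i)

/-- A finite subfamily already separates modulo torsion. -/
theorem exists_finite_family (P : Ideal A) [P.IsPrime] (M₀ : Submodule A M) (hfg : M₀.FG)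
    (hkill : ∀ a ∈ P, ∀ m ∈ M₀, a • m = 0)
    (h : ∀ m : M, (∀ i, (∀ s ∉ P, ∀ n : N i, s • n = 0 → n = 0) → φ i m = 0) → ∃ s ∉ P, s • m = 0) :
    ∃ F : Finset ι, ∀ m ∈ M₀, (∀ i ∈ F, φ i m = 0) → ∃ s ∉ P, s • m = 0 := by
  classical
  haveI : Module.Finite A M₀ := Module.Finite.iff_fg.mpr hfg
  haveI := isArtinian_localized P M₀ fun a ha x => Subtype.ext (hkill a ha x x.2)
  let K : Finset {i // ∀ s ∉ P, ∀ n : N i, s • n = 0 → n = 0} → Submodule A M₀ :=
    fun F => ⨅ i ∈ F, LinearMap.ker ((φ i.1).comp M₀.subtype)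
  let U := fun F => (K F).localized P.primeCompl
  obtain ⟨_, ⟨F, rfl⟩, hmin⟩ := IsArtinian.set_has_minimal (R := Localization.AtPrime P)
    (Set.range U) ⟨_, ⟨∅, rfl⟩⟩
  refine ⟨F.image (·.1), fun m hm hF => h m fun i hi => ?_⟩
  have hmK : (⟨m, hm⟩ : M₀) ∈ K F := by
    simp only [K, Submodule.mem_iInf]
    exact fun j hj => hF j.1 (Finset.mem_image.mpr ⟨j, hj, rfl⟩)
  have hle : K (insert ⟨i, hi⟩ F) ≤ K F :=
    biInf_mono fun j hj => Finset.mem_insert_of_mem hj
  have hUle : U (insert ⟨i, hi⟩ F) ≤ U F := fun x hx => by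
    rw [Submodule.mem_localized'] at hx ⊢
    obtain ⟨y, hy, t, ht⟩ := hx
    exact ⟨y, hle hy, t, ht⟩
  have hU : U (insert ⟨i, hi⟩ F) = U F := by
    by_contra hne
    exact hmin _ ⟨_, rfl⟩ (lt_of_le_of_ne hUle hne)
  have hmem : LocalizedModule.mk (⟨m, hm⟩ : M₀) (1 : P.primeCompl) ∈ U (insert ⟨i, hi⟩ F) := by
    rw [hU, Submodule.mem_localized']
    exact ⟨_, hmK, 1, by rw [← LocalizedModule.mkLinearMap_apply, IsLocalizedModule.mk'_one]⟩
  rw [Submodule.mem_localized'] at hmem
  obtain ⟨y, hy, t, ht⟩ := hmem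
  rw [IsLocalizedModule.mk_eq_mk', IsLocalizedModule.mk'_eq_mk'_iff] at ht
  obtain ⟨c, hc⟩ := ht
  have hyi : φ i (y : M) = 0 := by
    simp only [K, Submodule.mem_iInf] at hy
    exact hy ⟨i, hi⟩ (Finset.mem_insert_self _ _)
  simp only [one_smul] at hc
  have hc' := congrArg (fun z : M₀ => φ i (z : M)) hc
  simp only [Submonoid.smul_def, SetLike.val_smul, map_smul, hyi, smul_zero] at hc'
  exact hi t t.2 _ (hi c c.2 _ hc')

variable (E : Type u) [AddCommGroup E] [Module A E] [Module.Flat A E]

/-- Joint injectivity survives a flat base change, given that it holds after localization at each prime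
with the members on which the localization acts injectively. -/
theorem lTensor_jointly_injective
    (h : ∀ (P : Ideal A), P.IsPrime → ∀ m : M,
      (∀ i, (∀ s ∉ P, ∀ n : N i, s • n = 0 → n = 0) → φ i m = 0) → ∃ s ∉ P, s • m = 0)
    (y : E ⊗[A] M) (hy : ∀ i, (φ i).lTensor E y = 0) : y = 0 := by
  classical
  let Z : Submodule A (E ⊗[A] M) := ⨅ i, LinearMap.ker ((φ i).lTensor E)
  have hyZ : y ∈ Z := by
    simp only [Z, Submodule.mem_iInf, LinearMap.mem_ker]
    exact hy
  by_contra hy0
  obtain ⟨P, hP, -⟩ := exists_le_isAssociatedPrime_of_isNoetherianRing A (⟨y, hyZ⟩ : Z)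
    (fun hh => hy0 (congrArg Subtype.val hh))
  rw [isAssociatedPrime_iff] at hP
  obtain ⟨hPp, ⟨z, hzZ⟩, hPz⟩ := hP
  haveI := hPp
  have hzann : ∀ a : A, a ∈ P ↔ a • z = 0 := fun a => by
    rw [hPz, Submodule.mem_colon_singleton, Submodule.mem_bot]
    exact ⟨fun h => congrArg Subtype.val h, fun h => Subtype.ext h⟩
  obtain ⟨S, hS⟩ := IsNoetherian.noetherian P
  let α : M →ₗ[A] (S → M) := LinearMap.pi fun a => LinearMap.lsmul A M (a : A)
  have hex : Function.Exact (LinearMap.ker α).subtype α := LinearMap.exact_subtype_ker_map α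
  have hzα : α.lTensor E z = 0 := by
    refine (LinearEquiv.map_eq_zero_iff (TensorProduct.piRight A A E (fun _ : S => M))).mp ?_
    funext a
    have ha : (a : A) • z = 0 := (hzann a).mp (hS ▸ Submodule.subset_span a.2)
    have key : ∀ x : E ⊗[A] M, TensorProduct.piRight A A E (fun _ : S => M) (α.lTensor E x) a = (a : A) • x := by
      intro x
      induction x using TensorProduct.induction_on with
      | zero => simp
      | tmul e m => simp [α]
      | add b c hb hc => simp only [map_add, Pi.add_apply, smul_add, hb, hc]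
    rw [key, ha]
    rfl
  obtain ⟨z', hz'⟩ := (Module.Flat.lTensor_exact E hex z).mp hzα
  obtain ⟨n, e, mm, hsum⟩ := TensorProduct.exists_sum_tmul_eq z'
  let M₀ : Submodule A M := Submodule.span A (Set.range fun j => (mm j : M))
  have hkill : ∀ a ∈ P, ∀ m ∈ M₀, a • m = 0 := by
    intro a ha m hm
    have hker : ∀ x : LinearMap.ker α, a • (x : M) = 0 := by
      intro x
      rw [← hS] at ha
      induction ha using Submodule.span_induction with
      | mem b hb => exact congrFun (LinearMap.mem_ker.mp x.2) ⟨b, hb⟩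
      | zero => exact zero_smul _ _
      | add b c _ _ hb hc => rw [add_smul, hb, hc, add_zero]
      | smul c b _ hb => rw [smul_eq_mul, mul_smul, hb, smul_zero]
    induction hm using Submodule.span_induction with
    | mem x hx => obtain ⟨j, rfl⟩ := hx; exact hker (mm j)
    | zero => exact smul_zero _
    | add b c _ _ hb hc => rw [smul_add, hb, hc, add_zero]
    | smul c b _ hb => rw [smul_comm, hb, smul_zero]
  have hfg : M₀.FG := Submodule.fg_span (Set.finite_range _)
  obtain ⟨F, hF⟩ := exists_finite_family φ P M₀ hfg hkill (h P hPp)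
  let z0 : E ⊗[A] M₀ := ∑ j, e j ⊗ₜ[A] (⟨(mm j : M), Submodule.subset_span ⟨j, rfl⟩⟩ : M₀)
  have hz0 : M₀.subtype.lTensor E z0 = z := by
    rw [← hz', hsum]
    simp [z0, map_sum]
  let Φ : M₀ →ₗ[A] ∀ i : F, N i.1 := LinearMap.pi fun i => (φ i.1).comp M₀.subtype
  have hΦ : Φ.lTensor E z0 = 0 := by
    refine (LinearEquiv.map_eq_zero_iff (TensorProduct.piRight A A E (fun i : F => N i.1))).mp ?_
    funext i
    have key : ∀ x : E ⊗[A] M₀, TensorProduct.piRight A A E (fun i : F => N i.1) (Φ.lTensor E x) i =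
        (φ i.1).lTensor E (M₀.subtype.lTensor E x) := by
      intro x
      induction x using TensorProduct.induction_on with
      | zero => simp
      | tmul e m => simp [Φ]
      | add b c hb hc => simp only [map_add, Pi.add_apply, hb, hc]
    rw [key, hz0]
    have := hzZ
    simp only [Z, Submodule.mem_iInf, LinearMap.mem_ker] at this
    exact this i.1
  obtain ⟨w, hw⟩ := (Module.Flat.lTensor_exact E (LinearMap.exact_subtype_ker_map Φ) z0).mp hΦ
  haveI : Module.Finite A M₀ := Module.Finite.iff_fg.mpr hfg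
  obtain ⟨T, hT⟩ := IsNoetherian.noetherian (LinearMap.ker Φ)
  have hTs : ∀ x ∈ T, ∃ s ∉ P, s • x = 0 := fun x hx => by
    have hxK : x ∈ LinearMap.ker Φ := hT ▸ Submodule.subset_span hx
    obtain ⟨s, hs, hsx⟩ := hF (x : M) x.2 fun i hi => congrFun (LinearMap.mem_ker.mp hxK) ⟨i, hi⟩
    exact ⟨s, hs, Subtype.ext hsx⟩
  choose! s hs hsx using hTs
  let σ : A := ∏ x ∈ T, s x
  have hσ : σ ∉ P := fun hh => by
    obtain ⟨x, hx, hx'⟩ := (hPp.prod_mem_iff).mp hh
    exact hs x hx hx'
  have hσK : ∀ x : LinearMap.ker Φ, σ • x = 0 := by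
    rintro ⟨x, hx⟩
    refine Subtype.ext ?_
    show σ • x = 0
    rw [← hT] at hx
    induction hx using Submodule.span_induction with
    | mem b hb =>
      obtain ⟨c, hc⟩ := Finset.dvd_prod_of_mem s hb
      show σ • b = 0
      rw [show σ = c * s b by rw [mul_comm]; exact hc, mul_smul, hsx b hb, smul_zero]
    | zero => exact smul_zero _
    | add b c _ _ hb hc => rw [smul_add, hb, hc, add_zero]
    | smul c b _ hb => rw [smul_comm, hb, smul_zero]
  have hw0 : σ • w = 0 := by
    clear hw
    induction w using TensorProduct.induction_on with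
    | zero => exact smul_zero _
    | tmul e x => rw [← tmul_smul, hσK, tmul_zero]
    | add b c hb hc => rw [smul_add, hb, hc, add_zero]
  refine hσ ((hzann σ).mpr ?_)
  rw [← hz0, ← hw, ← map_smul, ← map_smul, hw0, map_zero, map_zero]

end Groth.Agent.IntBC
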