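import Groth.Agent.IntBC.Main

/-!
# Geometric normality along separable algebraic extensions of the base field
-/

namespace Groth.Agent.IntBC

universe u

open TensorProduct Polynomial

/-- In a reduced algebra over a field an integral element generates an idempotent ideal. -/
theorem exists_eq_sq_mul {k R : Type u} [Field k] [CommRing R] [Algebra k R] [IsReduced R] {t : R}
    (ht : IsIntegral k t) : ∃ u : R, t = t ^ 2 * u := by
  obtain ⟨r, hr, hr0⟩ := Polynomial.exists_eq_pow_rootMultiplicity_mul_and_not_dvd (minpoly k t)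
    (minpoly.ne_zero ht) 0
  rw [map_zero, sub_zero] at hr hr0
  generalize (minpoly k t).rootMultiplicity 0 = m at hr
  have h0 : t ^ m * aeval t r = 0 := by
    rw [← minpoly.aeval k t, hr, map_mul, map_pow, aeval_X]
  have h1 : t * aeval t r = 0 := by
    refine (show IsNilpotent (t * aeval t r) from ⟨m + 1, ?_⟩).eq_zero
    rw [mul_pow, pow_succ t, pow_succ' (aeval t r), show t ^ m * t * (aeval t r * aeval t r ^ m) =
      (t ^ m * aeval t r) * (t * aeval t r ^ m) by ring, h0, zero_mul]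
  have hc : r.coeff 0 ≠ 0 := fun h => hr0 (X_dvd_iff.mpr h)
  refine ⟨-(algebraMap k R (r.coeff 0)⁻¹ * aeval t r.divX), ?_⟩
  have h2 : aeval t r = t * aeval t r.divX + algebraMap k R (r.coeff 0) := by
    conv_lhs => rw [← X_mul_divX_add r]
    rw [map_add, map_mul, aeval_X, aeval_C]
  rw [h2] at h1
  have h3 : algebraMap k R (r.coeff 0)⁻¹ * algebraMap k R (r.coeff 0) = 1 := by
    rw [← map_mul, inv_mul_cancel₀ hc, map_one]
  linear_combination (algebraMap k R (r.coeff 0)⁻¹) * h1 - t * h3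

variable {k k' : Type u} [Field k] [Field k'] [Algebra k k'] [Algebra.IsSeparable k k']

/-- The quotient of `L ⊗_k A` onto `L ⊗_k' A` preserves local rings. -/
theorem normal_tensor_descend (A L : Type u) [CommRing A] [Algebra k' A] [Algebra k A] [IsScalarTower k k' A]
    [Field L] [Algebra k' L] [Algebra k L] [IsScalarTower k k' L] (h : EGA4.IsNormalRing (L ⊗[k] A)) :
    EGA4.IsNormalRing (L ⊗[k'] A) := by
  let π : L ⊗[k] A →ₐ[L] L ⊗[k'] A :=
    Algebra.TensorProduct.lift (Algebra.ofId L _)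
      ((Algebra.TensorProduct.includeRight (R := k') (A := L) (B := A)).restrictScalars k) fun _ _ => Commute.all _ _
  have hπ : ∀ l a, π (l ⊗ₜ[k] a) = l ⊗ₜ[k'] a := fun l a => by
    simp [π, Algebra.TensorProduct.algebraMap_apply]
  have hsurj : Function.Surjective π := fun z => by
    induction z using TensorProduct.induction_on with
    | zero => exact ⟨0, map_zero _⟩
    | tmul l a => exact ⟨l ⊗ₜ a, hπ l a⟩
    | add u v hu hv =>
      obtain ⟨u, rfl⟩ := hu
      obtain ⟨v, rfl⟩ := hv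
      exact ⟨u + v, map_add _ _ _⟩
  intro Q' _
  let Q : Ideal (L ⊗[k] A) := Q'.comap π.toRingHom
  haveI : Q.IsPrime := Ideal.comap_isPrime π.toRingHom Q'
  let I : Ideal (L ⊗[k] A) :=
    { carrier := {x | ∃ s ∉ Q, s * x = 0}
      zero_mem' := ⟨1, Q.primeCompl.one_mem, mul_zero 1⟩
      add_mem' := by
        rintro a b ⟨s, hs, ha⟩ ⟨t, ht, hb⟩
        exact ⟨s * t, Q.primeCompl.mul_mem hs ht, by linear_combination t * ha + s * hb⟩
      smul_mem' := by
        rintro c x ⟨s, hs, hx⟩
        exact ⟨s, hs, by rw [smul_eq_mul]; linear_combination c * hx⟩ }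
  haveI : Algebra.IsGeometricallyReduced k k' := by
    rw [Algebra.isGeometricallyReduced_field_iff]
    exact GrpSchLib.isReduced_field_tensor k k' (AlgebraicClosure k)
  haveI : IsReduced (k' ⊗[k] k') := FBaseLib.isReduced_field_tensor (k := k) k' k'
  let θ : k' ⊗[k] k' →ₐ[k] L ⊗[k] A :=
    Algebra.TensorProduct.map (IsScalarTower.toAlgHom k k' L) (IsScalarTower.toAlgHom k k' A)
  have hd : ∀ a : k', (algebraMap k' L a) ⊗ₜ[k] (1 : A) - 1 ⊗ₜ[k] algebraMap k' A a ∈ I := by
    intro a
    have ha : IsIntegral k a := (Algebra.IsSeparable.isSeparable k a).isIntegral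
    obtain ⟨u, hu⟩ := exists_eq_sq_mul (k := k) (t := a ⊗ₜ[k] (1 : k') - (1 : k') ⊗ₜ[k] a)
      ((ha.map (Algebra.TensorProduct.includeLeft (R := k) (S := k) (A := k') (B := k'))).sub
        (ha.map (Algebra.TensorProduct.includeRight (R := k) (A := k') (B := k'))))
    have hd' : θ (a ⊗ₜ[k] (1 : k') - (1 : k') ⊗ₜ[k] a) =
        (algebraMap k' L a) ⊗ₜ[k] (1 : A) - 1 ⊗ₜ[k] algebraMap k' A a := by simp [θ]
    have hu' := congrArg θ hu
    rw [map_mul, map_pow, hd'] at hu'
    refine ⟨1 - ((algebraMap k' L a) ⊗ₜ[k] (1 : A) - 1 ⊗ₜ[k] algebraMap k' A a) * θ u, fun hQ => ?_,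
      by linear_combination hu'⟩
    have h0 : π ((algebraMap k' L a) ⊗ₜ[k] (1 : A) - 1 ⊗ₜ[k] algebraMap k' A a) = 0 := by
      rw [map_sub, hπ, hπ, Algebra.algebraMap_eq_smul_one, Algebra.algebraMap_eq_smul_one, TensorProduct.smul_tmul,
        sub_self]
    have h1 : π (1 - ((algebraMap k' L a) ⊗ₜ[k] (1 : A) - 1 ⊗ₜ[k] algebraMap k' A a) * θ u) ∈ Q' := hQ
    rw [map_sub π, map_one, map_mul π, h0, zero_mul, sub_zero] at h1
    exact ‹Q'.IsPrime›.ne_top ((Ideal.eq_top_iff_one _).mpr h1)
  have hker : ∀ x, π x = 0 → x ∈ I := by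
    intro x hx
    let j : A →ₐ[k'] (L ⊗[k] A) ⧸ I :=
      AlgHom.mk ((Ideal.Quotient.mk I).comp (Algebra.TensorProduct.includeRight (R := k) (A := L) (B := A)).toRingHom)
        fun a => (Ideal.Quotient.eq.mpr (hd a)).symm
    let ψ : L ⊗[k'] A →ₐ[k'] (L ⊗[k] A) ⧸ I :=
      Algebra.TensorProduct.lift (IsScalarTower.toAlgHom k' L _) j fun _ _ => Commute.all _ _
    have hψ : ∀ z, ψ (π z) = Ideal.Quotient.mk I z := by
      intro z
      induction z using TensorProduct.induction_on with
      | zero => simp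
      | tmul l a =>
        rw [hπ, Algebra.TensorProduct.lift_tmul]
        show Ideal.Quotient.mk I (l ⊗ₜ[k] (1 : A)) * Ideal.Quotient.mk I ((1 : L) ⊗ₜ[k] a) = _
        rw [← map_mul, Algebra.TensorProduct.tmul_mul_tmul, mul_one, one_mul]
      | add u v hu hv => rw [map_add, map_add, map_add, hu, hv]
    rw [← Ideal.Quotient.eq_zero_iff_mem, ← hψ, hx, map_zero]
  let S := Localization.AtPrime Q'
  let f : L ⊗[k] A →+* S := (algebraMap (L ⊗[k'] A) S).comp π.toRingHom
  letI : Algebra (L ⊗[k] A) S := f.toAlgebra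
  haveI : IsLocalization Q.primeCompl S := by
    refine (isLocalization_iff _ _).mpr ⟨fun y => IsLocalization.map_units S (⟨π y, y.2⟩ : Q'.primeCompl),
      fun z => ?_, fun {x y} h => ?_⟩
    · obtain ⟨⟨a, ⟨b, hb⟩⟩, hab⟩ := IsLocalization.surj Q'.primeCompl z
      obtain ⟨a, rfl⟩ := hsurj a
      obtain ⟨b, rfl⟩ := hsurj b
      exact ⟨⟨a, ⟨b, hb⟩⟩, hab⟩
    · obtain ⟨⟨c, hc⟩, he⟩ := (IsLocalization.eq_iff_exists Q'.primeCompl S).mp h
      obtain ⟨c, rfl⟩ := hsurj c
      obtain ⟨s, hs, hsx⟩ := hker (c * x - c * y) (by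
        rw [map_sub, map_mul, map_mul]; exact sub_eq_zero.mpr he)
      exact ⟨⟨s * c, Q.primeCompl.mul_mem hs hc⟩, by linear_combination hsx⟩
  let e : Localization.AtPrime Q ≃+* S :=
    (IsLocalization.algEquiv Q.primeCompl (Localization.AtPrime Q) S).toRingEquiv
  haveI := (h Q).1
  haveI := (h Q).2
  exact ⟨MulEquiv.isDomain (Localization.AtPrime Q) e.symm.toMulEquiv, IsIntegrallyClosed.of_equiv e⟩

/-- A separable algebraic extension of the base field does not affect geometric normality. -/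
theorem isGeomNormal_iff (A : Type u) [CommRing A] [Algebra k' A] [Algebra k A] [IsScalarTower k k' A] :
    EGA4.IsGeomNormal k A ↔ EGA4.IsGeomNormal k' A := by
  constructor
  · intro h L _ _ _
    letI : Algebra k L := ((algebraMap k' L).comp (algebraMap k k')).toAlgebra
    haveI : IsScalarTower k k' L := IsScalarTower.of_algebraMap_eq fun _ => rfl
    have hL : EGA4.IsNormalRing L := FlatLoc6.isNormalRing_of_isRegularRing L
    exact normal_tensor_descend A L (FlatLoc6.isNormalRing_of_ringEquiv (R := A ⊗[k] L)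
      (Algebra.TensorProduct.comm k A L).toRingEquiv (normal_of_isGeomNormal A L h hL))
  · intro h k₁ _ _ _
    haveI : Algebra.IsGeometricallyReduced k k' := by
      rw [Algebra.isGeometricallyReduced_field_iff]
      exact GrpSchLib.isReduced_field_tensor k k' (AlgebraicClosure k)
    have hk₁ : EGA4.IsNormalRing k₁ := FlatLoc6.isNormalRing_of_isRegularRing k₁
    have hR : EGA4.IsNormalRing (k' ⊗[k] k₁) :=
      normal_of_isGeomNormal k' k₁ (isGeomNormal_of_field k') hk₁
    have hN := normal_of_isGeomNormal (k := k') A (k' ⊗[k] k₁) h hR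
    exact FlatLoc6.isNormalRing_of_ringEquiv (R := A ⊗[k'] (k' ⊗[k] k₁))
      ((Algebra.TensorProduct.cancelBaseChange k k' k' A k₁).toRingEquiv.trans
        (Algebra.TensorProduct.comm k A k₁).toRingEquiv) hN

end Groth.Agent.IntBC
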